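import Groth.Agent.FormalAlg.Generate

/-!
# Algebraization of systems on the thickenings of an ample divisor
-/

set_option linter.style.haveILetI false
set_option linter.unusedSectionVars false
set_option backward.isDefEq.respectTransparency false
set_option backward.isDefEq.respectTransparency.types false

universe u

open CategoryTheory CategoryTheory.Limits AlgebraicGeometry TopologicalSpace Opposite
open Groth.Agent.H23.PicMul

attribute [local instance] HasDerivedCategory.standard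
attribute [local instance] Groth.Agent.QCoh.hasFiniteBiproducts

noncomputable section

namespace Groth.Agent.FormalAlg

open Groth.Agent

variable {X : Scheme.{u}} {J : X.IdealSheafData}

/-- A compatible family into an invertible twist comes from a morphism. -/
theorem exists_hom_twist [IsLocallyNoetherian X] (hlef : ∀ H : X.Modules, Coh.IsCoh H → Lef.HomToFormalBijective J H) {Q : X.Modules}
    (hQ : PicF.IsInvertible Q) {H : X.Modules} (hH : Coh.IsCoh H)
    (z : ∀ n : ℕ, H ⟶ (AmpleVan.tw Q).obj (ClSub.quotMod (J ^ (n + 1))))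
    (hz : ∀ n, z (n + 1) ≫ (AmpleVan.tw Q).map
      (Lef.quotMap (I := J ^ (n + 1 + 1)) (J := J ^ (n + 1)) (Lef.pow_succ_le J n)) = z n) :
    ∃ ψ : H ⟶ (AmpleVan.tw Q).obj (Coh.structureModule X),
      ∀ n, ψ ≫ (AmpleVan.tw Q).map (ClSub.toSubscheme (J ^ (n + 1))) = z n := by
  obtain ⟨Q', hQ', ⟨e⟩⟩ := H23.PicInv.exists_inverse hQ
  let T := AmpleVan.tw Q'
  haveI : T.IsEquivalence := AmpleVan.isEquivalence_tw hQ'
  obtain ⟨e'⟩ : Nonempty (T.obj Q ≅ Coh.structureModule X) := ⟨e⟩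
  let η : AmpleVan.tw Q ⋙ T ≅ 𝟭 X.Modules :=
    AmpleVan.twComp Q Q' ≪≫ (DCoh.tensorBi (X := X)).flip.mapIso e' ≪≫ AmpleVan.twUnit
  obtain ⟨φ, hφ⟩ := (hlef (T.obj H) (AmpleVan.isCoh_tensor hH (AmpleVan.isCoh_invertible hQ'))).2
    (fun n => T.map (z n) ≫ η.hom.app _) fun n => by
      have h := AmpleVan.twist_compat η (Lef.quotMap (I := J ^ (n + 1 + 1)) (J := J ^ (n + 1)) (Lef.pow_succ_le J n))
        (z (n + 1))
      rw [hz n] at h
      exact h
  refine ⟨T.preimage (φ ≫ η.inv.app _), fun n => T.map_injective ?_⟩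
  rw [Functor.map_comp, Functor.map_preimage, ← cancel_mono (η.hom.app (ClSub.quotMod (J ^ (n + 1)))), ← hφ n]
  simp only [Category.assoc]
  refine congrArg (φ ≫ ·) ?_
  rw [show T.map ((AmpleVan.tw Q).map (ClSub.toSubscheme (J ^ (n + 1)))) ≫ η.hom.app _ =
    η.hom.app _ ≫ ClSub.toSubscheme (J ^ (n + 1)) from η.hom.naturality _, Iso.inv_hom_id_app_assoc]

/-- A compatible family into a completed sum of invertible modules comes from a morphism. -/
theorem exists_hom_levels [IsLocallyNoetherian X] (hJ : PicF.IsInvertible (ClSub.idealMod J))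
    (hlef : ∀ H : X.Modules, Coh.IsCoh H → Lef.HomToFormalBijective J H) {Q : X.Modules}
    (hQ : PicF.IsInvertible Q) {r : ℕ} (hD : FlatMod.IsFinLocFree (⨁ fun _ : ULift.{u} (Fin r) => Q))
    {H : X.Modules} (hH : Coh.IsCoh H) (y : ∀ n, H ⟶ (levels J hJ _ hD).G n)
    (hy : ∀ n, y (n + 1) ≫ (levels J hJ _ hD).ρ n = y n) :
    ∃ ψ : H ⟶ (AmpleVan.tw (⨁ fun _ : ULift.{u} (Fin r) => Q)).obj (Coh.structureModule X),
      ∀ n, ψ ≫ levelsπ J hJ _ hD n = y n := by
  classical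
  delta levels at y hy
  delta levelsπ levels
  let P : ULift.{u} (Fin r) → X.Modules := fun _ => Q
  let B := fun M : X.Modules => (DCoh.tensorBi (X := X)).obj M
  change ∀ n : ℕ, H ⟶ (AmpleVan.tw (⨁ P)).obj (ClSub.quotMod (J ^ (n + 1))) at y
  change ∀ n : ℕ, y (n + 1) ≫ (AmpleVan.tw (⨁ P)).map
    (Lef.quotMap (I := J ^ (n + 1 + 1)) (J := J ^ (n + 1)) (Lef.pow_succ_le J n)) = y n at hy
  show ∃ ψ : H ⟶ (AmpleVan.tw (⨁ P)).obj (Coh.structureModule X),
      ∀ n, ψ ≫ (AmpleVan.tw (⨁ P)).map (ClSub.toSubscheme (J ^ (n + 1))) = y n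
  have nat : ∀ {M M' : X.Modules} (f : M ⟶ M') {U V : X.Modules} (g : U ⟶ V),
      (AmpleVan.tw U).map f ≫ (B M').map g = (B M).map g ≫ (AmpleVan.tw V).map f := fun f _ _ g =>
    ((DCoh.tensorBi.map f).naturality g).symm
  have hψ : ∀ b, ∃ ψ : H ⟶ (AmpleVan.tw Q).obj (Coh.structureModule X),
      ∀ n, ψ ≫ (AmpleVan.tw Q).map (ClSub.toSubscheme (J ^ (n + 1))) =
        y n ≫ (B _).map (biproduct.π P b) := fun b =>
    exists_hom_twist hlef hQ hH (fun n => y n ≫ (B _).map (biproduct.π P b)) fun n => by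
      show (y (n + 1) ≫ _) ≫ (AmpleVan.tw (P b)).map _ = y n ≫ _
      rw [Category.assoc, ← nat, ← Category.assoc, hy n]
  choose ψ hψ using hψ
  refine ⟨∑ b, ψ b ≫ (B _).map (biproduct.ι P b), fun n => ?_⟩
  rw [Preadditive.sum_comp]
  have h : ∀ b, (ψ b ≫ (B _).map (biproduct.ι P b)) ≫ (AmpleVan.tw (⨁ P)).map (ClSub.toSubscheme (J ^ (n + 1))) =
      y n ≫ (B _).map (biproduct.π P b ≫ biproduct.ι P b) := fun b => by
    show (ψ b ≫ (B _).map (biproduct.ι P b)) ≫ _ = _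
    rw [Category.assoc, ← nat, ← Category.assoc, hψ b, Category.assoc, Functor.map_comp]
  haveI : (B (ClSub.quotMod (J ^ (n + 1)))).Additive := inferInstance
  rw [Finset.sum_congr rfl (fun b _ => h b), ← Preadditive.comp_sum, ← Functor.map_sum, QCoh.biproduct_total',
    CategoryTheory.Functor.map_id]
  exact Category.comp_id (y n)

variable (A : Type u) [CommRing A] [IsNoetherianRing A] [X.Over (Spec (CommRingCat.of A))]
  [IsProper (X ↘ Spec (CommRingCat.of A))]

include A in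
/-- Algebraization of a system on the thickenings of an ample divisor. -/
theorem LevelSys.exists_algebraization [IsLocallyNoetherian X] (S : LevelSys J)
    (hJ : PicF.IsInvertible (ClSub.idealMod J)) {L : X.Modules} (hamp : CohB1.IsAmple L)
    (hLI : PicF.cl L * PicF.cl (ClSub.idealMod J) = 1)
    (hlef : ∀ H : X.Modules, Coh.IsCoh H → Lef.HomToFormalBijective J H)
    (hO : ∃ j₀, ∀ j, j₀ ≤ j → Van 1 (PicF.cl (ClSub.quotMod J) * PicF.cl (ClSub.idealMod J) ^ j))
    (h₀ : ∃ j₀, ∀ j, j₀ ≤ j → Van 0 (PicF.cl (S.G 0) * PicF.cl (ClSub.idealMod J) ^ j))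
    (h₁ : ∃ j₀, ∀ j, j₀ ≤ j → Van 1 (PicF.cl (S.G 0) * PicF.cl (ClSub.idealMod J) ^ j)) :
    ∃ (M : X.Modules) (q : ∀ n, M ⟶ S.G n), Coh.IsCoh M ∧ (∀ n, q (n + 1) ≫ S.ρ n = q n) ∧
      (∀ n (x : X), Function.Surjective ((DerSch.stalkFunctor X x).map (q n))) ∧
      ∀ n (W : X.affineOpens) (x : X) (hx : x ∈ W.1) (v : (DerSch.stalkFunctor X x).obj M),
        (DerSch.stalkFunctor X x).map (q n) v = 0 → v ∈ DepthTwist.stI J W hx ^ (n + 1) •
          (⊤ : Submodule (X.presheaf.stalk x) ((DerSch.stalkFunctor X x).obj M)) := by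
  obtain ⟨r, m, φ, hφ, hs⟩ := S.exists_compatible_epi A hJ hamp hLI h₁
  haveI : IsNoetherian X :=
    { __ := ‹IsLocallyNoetherian X›, __ := (AmpleVan.compactSpace_of_proper (A := A) : CompactSpace X) }
  have hflf : ∀ r m : ℕ, FlatMod.IsFinLocFree
      (⨁ fun _ : ULift.{u} (Fin r) => CohB1.tensorPow (ClSub.idealMod J) m) := fun r m =>
    KZ.QuasiProj.flf_biproduct _ fun _ =>
      H23.PullPush.isFinLocFree_of_isInvertible (InvX.isInvertible_tensorPow hJ m)
  obtain ⟨θ, u, hu⟩ := exists_levelHom S hJ _ (hflf r m) φ hφ hs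
  let D := levels J hJ _ (hflf r m)
  let K := θ.kernelSys hJ
  haveI : ∀ n, Epi (θ.f n) := fun n => HomShX.epi_of_stalk _ fun x => θ.surj n x
  obtain ⟨jD, hjD⟩ := van_levels J hJ r m (hflf r m) 1 hO
  obtain ⟨j0, hj0⟩ := h₀
  have hK : ∃ j₀, ∀ j, j₀ ≤ j → Van 1 (PicF.cl (K.G 0) * PicF.cl (ClSub.idealMod J) ^ j) := by
    refine ⟨max jD j0, fun j hj => ?_⟩
    let T := AmpleVan.tw (CohB1.tensorPow (ClSub.idealMod J) j)
    haveI := AmpleVan.isEquivalence_tw (InvX.isInvertible_tensorPow hJ j)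
    have hS : (ShortComplex.mk (kernel.ι (θ.f 0)) (θ.f 0) (kernel.condition _)).ShortExact :=
      { exact := ShortComplex.exact_of_f_is_kernel _ (kernelIsKernel (θ.f 0)) }
    refine van_of 1 (T.obj (kernel (θ.f 0))) (subsingleton_X₁ (hS.map_of_exact T) 0
      (hjD j (le_trans (le_max_left _ _) hj) _ ?_) (hj0 j (le_trans (le_max_right _ _) hj) _ ?_)) ?_
    · show PicF.cl (T.obj (D.G 0)) = _
      rw [cl_tw, cl_tensorPow]
    · show PicF.cl (T.obj (S.G 0)) = _
      rw [cl_tw, cl_tensorPow]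
    · show PicF.cl (T.obj (kernel (θ.f 0))) = _
      rw [cl_tw, cl_tensorPow]
      rfl
  obtain ⟨r', m', φ', hφ', hs'⟩ := K.exists_compatible_epi A hJ hamp hLI hK
  have hH : Coh.IsCoh (⨁ fun _ : ULift.{u} (Fin r') => CohB1.tensorPow (ClSub.idealMod J) m') :=
    CurveDeg.isCoh_of_isFinLocFree (hflf r' m')
  obtain ⟨ψ, hψ⟩ := exists_hom_levels hJ hlef (InvX.isInvertible_tensorPow hJ m) (hflf r m) hH
    (fun n => φ' n ≫ kernel.ι (θ.f n)) fun n => by
      show (φ' (n + 1) ≫ kernel.ι (θ.f (n + 1))) ≫ D.ρ n = φ' n ≫ kernel.ι (θ.f n)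
      rw [Category.assoc, ← show θ.kρ n ≫ kernel.ι (θ.f n) = kernel.ι (θ.f (n + 1)) ≫ D.ρ n from kernel.lift_ι _ _ _,
        ← Category.assoc]
      exact congrArg (· ≫ kernel.ι (θ.f n)) (hφ' n)
  have h0 : ∀ n, ψ ≫ levelsπ J hJ _ (hflf r m) n ≫ θ.f n = 0 := fun n => by
    rw [← Category.assoc, hψ, Category.assoc, kernel.condition, comp_zero]
  let q : ∀ n, cokernel ψ ⟶ S.G n := fun n => cokernel.desc ψ _ (h0 n)
  haveI : Epi (cokernel.π ψ) := inferInstance
  have hπ : ∀ x : X, Function.Surjective ((DerSch.stalkFunctor X x).map (cokernel.π ψ)) := fun x =>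
    (ModuleCat.epi_iff_surjective _).1 inferInstance
  refine ⟨cokernel ψ, q, QCoh.isCoh_cokernel hH.1
    (AmpleVan.isCoh_tensor (AmpleVan.isCoh_invertible InvX.isInvertible_structureModule)
      (CurveDeg.isCoh_of_isFinLocFree (hflf r m))) ψ, fun n => ?_, fun n x v => ?_, fun n W x hx v hv => ?_⟩
  · rw [← cancel_epi (cokernel.π ψ), cokernel.π_desc, ← Category.assoc, cokernel.π_desc, Category.assoc, ← θ.comm,
      ← Category.assoc, levelsπ_comm]
  · obtain ⟨w, rfl⟩ := θ.surj n x v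
    haveI := epi_levelsπ J hJ _ (hflf r m) n
    obtain ⟨z, rfl⟩ := (ModuleCat.epi_iff_surjective ((DerSch.stalkFunctor X x).map (levelsπ J hJ _ (hflf r m) n))).1
      inferInstance w
    refine ⟨(DerSch.stalkFunctor X x).map (cokernel.π ψ) z, ?_⟩
    rw [← ConcreteCategory.comp_apply, ← ConcreteCategory.comp_apply, ← Functor.map_comp, ← Functor.map_comp,
      cokernel.π_desc]
  · obtain ⟨z, rfl⟩ := hπ x v
    let Φ := DerSch.stalkFunctor X x
    rw [← ConcreteCategory.comp_apply, ← Functor.map_comp, cokernel.π_desc, Functor.map_comp,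
      ConcreteCategory.comp_apply] at hv
    obtain ⟨a, ha⟩ := stalk_kernel_exact (θ.f n) x _ hv
    obtain ⟨b, rfl⟩ := hs' n x a
    have h1 : Φ.map (levelsπ J hJ _ (hflf r m) n) (z - Φ.map ψ b) = 0 := by
      rw [map_sub, ← ha, sub_eq_zero]
      show Φ.map (kernel.ι (θ.f n)) (Φ.map (φ' n) b) = Φ.map (levelsπ J hJ _ (hflf r m) n) (Φ.map ψ b)
      rw [← ConcreteCategory.comp_apply (Φ.map ψ), ← Φ.map_comp, hψ, Φ.map_comp, ConcreteCategory.comp_apply]
      rfl
    have h2 := Submodule.mem_map_of_mem (f := (Φ.map (cokernel.π ψ)).hom)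
      ((levelsπ_ker J hJ _ (hflf r m) n W x hx _).1 h1)
    rw [Submodule.map_smul''] at h2
    have h3 : Φ.map (cokernel.π ψ) (z - Φ.map ψ b) = Φ.map (cokernel.π ψ) z := by
      rw [map_sub, sub_eq_self, ← ConcreteCategory.comp_apply, ← Functor.map_comp, cokernel.condition,
        Functor.map_zero]
      rfl
    rw [← h3]
    exact Submodule.smul_mono le_rfl le_top h2

end Groth.Agent.FormalAlg
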