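import Groth.Agent.FormalAlg.Levels

/-!
# The completion of the direct image from a neighbourhood
-/

set_option linter.style.haveILetI false
set_option linter.unusedSectionVars false
set_option backward.isDefEq.respectTransparency false
set_option backward.isDefEq.respectTransparency.types false

universe u

open CategoryTheory CategoryTheory.Limits AlgebraicGeometry TopologicalSpace Opposite

noncomputable section

namespace Groth.Agent.FormalAlg

open Groth.Agent

variable {X : Scheme.{u}}

/-- A levelwise invertible map of systems is invertible. -/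
theorem nonempty_iso_of_app {𝔛 : FSch.Sys.{u}} {𝔐 𝔑 : FSch.ModSys 𝔛} (f : 𝔐 ⟶ 𝔑)
    (h : ∀ n, IsIso (FSch.ModSys.Hom.app f n)) : Nonempty (𝔐 ≅ 𝔑) := by
  let g : 𝔑 ⟶ 𝔐 := ⟨fun n => haveI := h n; inv (FSch.ModSys.Hom.app f n), fun n => by
    haveI := h n
    haveI := h (n + 1)
    rw [Functor.map_inv, IsIso.inv_comp_eq, ← Category.assoc, IsIso.eq_comp_inv]
    exact (FSch.ModSys.Hom.comm f n).symm⟩
  exact ⟨⟨f, g, FSch.ModSys.Hom.ext (funext fun n => by haveI := h n; exact IsIso.hom_inv_id (FSch.ModSys.Hom.app f n)),
    FSch.ModSys.Hom.ext (funext fun n => by haveI := h n; exact IsIso.inv_hom_id (FSch.ModSys.Hom.app f n))⟩⟩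

/-- A map of modules invertible on levels gives an isomorphism of completions. -/
theorem nonempty_complMod_iso (J : X.IdealSheafData) {M N : X.Modules} (φ : M ⟶ N)
    (h : ∀ n, IsIso ((Scheme.Modules.pullback (FSch.completionToX X J n)).map φ)) :
    Nonempty (FSch.complMod J M ≅ FSch.complMod J N) :=
  nonempty_iso_of_app (FSch.complModMap J φ) fun n => (FSch.complModMap_app J φ n).symm ▸ h n

theorem pullbackComp_congr_app {A B C : Scheme.{u}} (g : A ⟶ B) (h : B ⟶ C) {k : A ⟶ C} (hk : g ≫ h = k)
    (M : C.Modules) :
    (Scheme.Modules.pullbackComp g h).app M ≪≫ (Scheme.Modules.pullbackCongr hk).app M =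
      (Scheme.Modules.pullbackComp g h ≪≫ Scheme.Modules.pullbackCongr hk).app M := by
  ext1; simp

theorem modSys_mk_congr {𝔛 : FSch.Sys.{u}} (F : ∀ n, (𝔛.X n).Modules)
    (e e' : ∀ n, (Scheme.Modules.pullback (𝔛.ι n)).obj (F (n + 1)) ≅ F n) (h : ∀ n, e n = e' n) :
    (⟨F, e⟩ : FSch.ModSys 𝔛) = ⟨F, e'⟩ := by
  rw [funext h]

theorem complMod_eq_completionMod (J : X.IdealSheafData) (M : X.Modules) :
    FSch.completionMod J M = FSch.complMod J M := by
  refine modSys_mk_congr _ _ _ fun n => ?_
  unfold FSch.complTransIso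
  exact pullbackComp_congr_app (Scheme.IdealSheafData.inclusion (FSch.pow_succ_le X J n))
    (FSch.completionToX X J (n + 1)) (Scheme.IdealSheafData.inclusion_subschemeι (FSch.pow_succ_le X J n)) M

/-- The completion of a module only depends on a neighbourhood of the closed subscheme. -/
theorem nonempty_completionMod_restrict (J : X.IdealSheafData) (U : X.Opens) (hU : (J.support : Set X) ⊆ U)
    (M : X.Modules) :
    Nonempty (FSch.completionMod J ((Scheme.Modules.pushforward U.ι).obj (M.restrict U.ι)) ≅ FSch.complMod J M) := by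
  rw [complMod_eq_completionMod]
  let η := (Scheme.Modules.restrictAdjunction U.ι).unit.app M
  refine (nonempty_complMod_iso J η fun n => ?_).map Iso.symm
  haveI : IsIso ((Scheme.Modules.restrictFunctor U.ι).map η) := by
    haveI : IsIso ((Scheme.Modules.restrictFunctor U.ι).map η ≫
        (Scheme.Modules.restrictAdjunction U.ι).counit.app ((Scheme.Modules.restrictFunctor U.ι).obj M)) := by
      rw [(Scheme.Modules.restrictAdjunction U.ι).left_triangle_components M]; infer_instance
    exact IsIso.of_isIso_comp_right _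
      ((Scheme.Modules.restrictAdjunction U.ι).counit.app ((Scheme.Modules.restrictFunctor U.ι).obj M))
  haveI : IsIso ((Scheme.Modules.pullback U.ι).map η) :=
    (NatIso.isIso_map_iff (Scheme.Modules.restrictFunctorIsoPullback U.ι) η).1 inferInstance
  have hrange : Set.range (FSch.completionToX X J n) ⊆ Set.range U.ι := by
    show Set.range (J ^ (n + 1)).subschemeι ⊆ Set.range U.ι
    rw [Scheme.Opens.range_ι, Scheme.IdealSheafData.range_subschemeι, Scheme.IdealSheafData.support_pow_succ]
    exact hU
  let g := IsOpenImmersion.lift U.ι (FSch.completionToX X J n) hrange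
  have hg : g ≫ U.ι = FSch.completionToX X J n := IsOpenImmersion.lift_fac _ _ _
  rw [← hg]
  refine (NatIso.isIso_map_iff (Scheme.Modules.pullbackComp g U.ι) η).1 ?_
  rw [Functor.comp_map]; infer_instance

end Groth.Agent.FormalAlg
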