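import Groth.Agent.DepthTwist.IdealPow
import Groth.Agent.H23.InvStalk

/-!
# Multiplication by an invertible ideal, in the stalks
-/

set_option linter.style.haveILetI false
set_option linter.unusedSectionVars false
set_option backward.isDefEq.respectTransparency false
set_option backward.isDefEq.respectTransparency.types false

universe u

open CategoryTheory CategoryTheory.Limits AlgebraicGeometry TopologicalSpace Opposite MonoidalCategory
open scoped TensorProduct

noncomputable section

namespace Groth.Agent.FormalAlg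

open Groth.Agent

variable {X : Scheme.{u}}

/-- The multiplication `G ⊗ I → G`. -/
def mu (J : X.IdealSheafData) (G : X.Modules) :
    (DCoh.tensorBi.obj G).obj (ClSub.idealMod J) ⟶ G :=
  (DCoh.tensorBi.obj G).map (ClSub.idealModι J) ≫ (KFlatLib.tensorUnitIso G).hom

/-- Tensoring with the element `g` on a stalk. -/
def tg (N : X.Modules) (x : X) (g : (DerSch.stalkFunctor X x).obj N) (G : X.Modules) :
    (DerSch.stalkFunctor X x).obj G →ₗ[X.presheaf.stalk x]
      (DerSch.stalkFunctor X x).obj ((DCoh.tensorBi.obj G).obj N) :=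
  (KFlatLib.stalkTensorIso x G N).toLinearEquiv.toLinearMap ∘ₗ
    (TensorProduct.mk (X.presheaf.stalk x) _ _).flip g

theorem tg_natural (N : X.Modules) (x : X) (g : (DerSch.stalkFunctor X x).obj N) {G G' : X.Modules}
    (f : G ⟶ G') (v : (DerSch.stalkFunctor X x).obj G) :
    (DerSch.stalkFunctor X x).map ((DCoh.tensorBi.map f).app N) (tg N x g G v) =
      tg N x g G' ((DerSch.stalkFunctor X x).map f v) := by
  have h := KFlatLib.stalkTensorIso_naturality (x := x) f (𝟙 N)
  rw [(DerSch.stalkFunctor X x).map_id, CategoryTheory.Functor.map_id, Category.comp_id,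
    MonoidalCategory.tensorHom_id] at h
  exact (congrArg (fun ψ => ψ.hom (v ⊗ₜ g)) h).symm

theorem bijective_mk_flip {R M N : Type u} [CommRing R] [AddCommGroup M] [Module R M] [AddCommGroup N]
    [Module R N] (e : N ≃ₗ[R] R) : Function.Bijective ((TensorProduct.mk R M N).flip (e.symm 1)) := by
  have h : ⇑((TensorProduct.mk R M N).flip (e.symm 1)) =
      ((TensorProduct.rid R M).symm.trans (LinearEquiv.lTensor M e.symm) : M → _) :=
    funext fun m => by simp
  rw [h]
  exact LinearEquiv.bijective _

variable (J : X.IdealSheafData)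

/-- An invertible ideal is principal at every point, and multiplication by it is multiplication by a
generator up to an automorphism. -/
theorem exists_gen (hJ : PicF.IsInvertible (ClSub.idealMod J)) (W : X.affineOpens) {x : X} (hx : x ∈ W.1) :
    ∃ (t : X.presheaf.stalk x) (g : (DerSch.stalkFunctor X x).obj (ClSub.idealMod J)),
      DepthTwist.stI J W hx = Ideal.span {t} ∧ (∀ r, r * t = 0 → r = 0) ∧
      (∀ G : X.Modules, Function.Bijective (tg (ClSub.idealMod J) x g G)) ∧
      ∀ G : X.Modules, ∃ σ : (DerSch.stalkFunctor X x).obj G ≃ₗ[X.presheaf.stalk x] (DerSch.stalkFunctor X x).obj G,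
        ∀ v, (DerSch.stalkFunctor X x).map (mu J G) (tg (ClSub.idealMod J) x g G v) = t • σ v := by
  let Φ := DerSch.stalkFunctor X x
  let R := X.presheaf.stalk x
  let O := Coh.structureModule X
  obtain ⟨ε⟩ := H23.InvStalk.exists_stalk_equiv hJ x
  let g : Φ.obj (ClSub.idealMod J) := ε.symm 1
  let o : Φ.obj O := H23.UnitSec.one x
  have hspan : ∀ v : Φ.obj O, ∃ r : R, r • o = v := fun v =>
    Submodule.mem_span_singleton.1 ((H23.UnitSec.span_one x).ge (Submodule.mem_top : v ∈ ⊤))
  obtain ⟨t, ht⟩ := hspan (Φ.map (ClSub.idealModι J) g)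
  let eO : (Φ.obj O : Type u) ≃ₗ[R] R := (LinearEquiv.ofBijective (LinearMap.toSpanSingleton R (Φ.obj O) o)
    ⟨(injective_iff_map_eq_zero _).2 fun a ha => H23.UnitSec.eq_zero_of_smul_one a ha, hspan⟩).symm
  have heO : eO.symm 1 = o := by
    show LinearMap.toSpanSingleton R (Φ.obj O) o 1 = o
    simp
  refine ⟨t, g, ?_, fun r hr => ?_, fun G => ?_, fun G => ?_⟩
  · ext r
    rw [Ideal.mem_span_singleton']
    constructor
    · intro hr
      have hmem : r • o ∈ LinearMap.range (Φ.map (ClSub.idealModι J)).hom :=
        (DepthTwist.range_idealModι J W hx).ge (Submodule.smul_mem_smul hr Submodule.mem_top)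
      obtain ⟨v, hv⟩ := hmem
      refine ⟨ε v, sub_eq_zero.1 (H23.UnitSec.eq_zero_of_smul_one _ ?_)⟩
      have e1 : v = ε v • g := by rw [← map_smul, smul_eq_mul, mul_one, ε.symm_apply_apply]
      show ((ε v) * t - r) • o = 0
      rw [sub_smul, mul_smul, ht, sub_eq_zero, ← hv]
      conv_rhs => rw [e1]
      exact (map_smul _ _ _).symm
    · rintro ⟨a, rfl⟩
      refine Ideal.mul_mem_left _ a ?_
      have hmem : t • o ∈ DepthTwist.stI J W hx • (⊤ : Submodule R (Φ.obj O)) :=
        (DepthTwist.range_idealModι J W hx).le ⟨g, ht.symm⟩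
      have h2 : (DepthTwist.stI J W hx • (⊤ : Submodule R (Φ.obj O))).map eO.toLinearMap =
          DepthTwist.stI J W hx := by
        rw [Submodule.map_smul'', Submodule.map_top, LinearEquiv.range, smul_eq_mul, Ideal.mul_top]
      have h3 := h2.le (Submodule.mem_map_of_mem hmem)
      have : eO (t • o) = t := by rw [map_smul, ← heO, eO.apply_symm_apply, smul_eq_mul, mul_one]
      rwa [LinearEquiv.coe_coe, this] at h3
  · haveI : Mono (Φ.map (ClSub.idealModι J)) :=
      haveI : Mono (ClSub.idealModι J) := inferInstanceAs (Mono (kernel.ι (ClSub.toSubscheme J)))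
      inferInstance
    have h0 : r • g = 0 := (ModuleCat.mono_iff_injective (Φ.map (ClSub.idealModι J))).1 inferInstance (by
      rw [map_smul, ← ht, smul_smul, hr, zero_smul, map_zero])
    have := congrArg ε h0
    rwa [map_smul, map_zero, ε.apply_symm_apply, smul_eq_mul, mul_one] at this
  · exact (KFlatLib.stalkTensorIso x G (ClSub.idealMod J)).toLinearEquiv.bijective.comp (bijective_mk_flip ε)
  · let u := ((Φ.mapIso (KFlatLib.tensorUnitIso G)).toLinearEquiv)
    have hb : Function.Bijective (u.toLinearMap ∘ₗ tg O x o G) := by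
      refine u.bijective.comp ((KFlatLib.stalkTensorIso x G O).toLinearEquiv.bijective.comp ?_)
      rw [← heO]
      exact bijective_mk_flip eO
    refine ⟨LinearEquiv.ofBijective _ hb, fun v => ?_⟩
    have h := KFlatLib.stalkTensorIso_naturality (x := x) (𝟙 G) (ClSub.idealModι J)
    rw [(DerSch.stalkFunctor X x).map_id, CategoryTheory.Functor.map_id, NatTrans.id_app,
      Category.id_comp, MonoidalCategory.id_tensorHom] at h
    have h1 : Φ.map ((DCoh.tensorBi.obj G).map (ClSub.idealModι J)) (tg (ClSub.idealMod J) x g G v) =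
        tg O x (t • o) G v := by
      rw [ht]
      exact (congrArg (fun ψ => ψ.hom (v ⊗ₜ g)) h).symm
    show Φ.map (_ ≫ _) _ = t • u (tg O x o G v)
    rw [Functor.map_comp, ConcreteCategory.comp_apply, h1, ← map_smul u]
    refine congrArg u ?_
    show (KFlatLib.stalkTensorIso x G O).toLinearEquiv (v ⊗ₜ (t • o)) = t • (KFlatLib.stalkTensorIso x G O).toLinearEquiv (v ⊗ₜ o)
    rw [TensorProduct.tmul_smul, map_smul]

end Groth.Agent.FormalAlg
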