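import Groth.Agent.FormalAlg.Vanish
import Groth.Agent.AmpleVan.Tower
import Groth.Agent.AmpleVan.Pull
import Groth.Agent.KFlatLib.Scheme.ProjModule
import Groth.Agent.QCoh.AffineCohom
import Groth.Agent.FormalAlg.Gen

/-!
# Negative twists of invertible modules
-/

set_option linter.style.haveILetI false
set_option linter.unusedSectionVars false
set_option backward.isDefEq.respectTransparency false
set_option backward.isDefEq.respectTransparency.types false

universe u

open CategoryTheory CategoryTheory.Limits AlgebraicGeometry TopologicalSpace Opposite MonoidalCategory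
open Groth.Agent.H23.PicMul

attribute [local instance] Groth.Agent.QCoh.hasFiniteBiproducts

noncomputable section

namespace Groth.Agent.FormalAlg

open Groth.Agent

variable {X : Scheme.{u}}

/-- Multiplication by a section. -/
def mulS {P : X.Modules} (s : Coh.structureModule X ⟶ P) : P ⟶ (DCoh.tensorBi.obj P).obj P :=
  (KFlatLib.tensorUnitIso P).inv ≫ (DCoh.tensorBi.obj P).map s

/-- Multiplication by a section in coordinates on a stalk. -/
theorem stalk_mulS {P : X.Modules} (hP : PicF.IsInvertible P) (x : X) :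
    ∃ (ε : (DerSch.stalkFunctor X x).obj P ≃ₗ[X.presheaf.stalk x] X.presheaf.stalk x)
      (ε₂ : (DerSch.stalkFunctor X x).obj ((DCoh.tensorBi.obj P).obj P) ≃ₗ[X.presheaf.stalk x] X.presheaf.stalk x)
      (a : X.presheaf.stalk x), IsUnit a ∧ ∀ (s : Coh.structureModule X ⟶ P) w,
        ε₂ ((DerSch.stalkFunctor X x).map (mulS s) w) =
          a * ε w * ε ((DerSch.stalkFunctor X x).map s (H23.UnitSec.one x)) := by
  let Φ := DerSch.stalkFunctor X x
  let R := X.presheaf.stalk x
  let O := Coh.structureModule X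
  obtain ⟨ε⟩ := H23.InvStalk.exists_stalk_equiv hP x
  let g : Φ.obj P := ε.symm 1
  let o : Φ.obj O := H23.UnitSec.one x
  have hspan : ∀ v : Φ.obj O, ∃ r : R, r • o = v := fun v =>
    Submodule.mem_span_singleton.1 ((H23.UnitSec.span_one x).ge (Submodule.mem_top : v ∈ ⊤))
  let eO : (Φ.obj O : Type u) ≃ₗ[R] R := (LinearEquiv.ofBijective (LinearMap.toSpanSingleton R (Φ.obj O) o)
    ⟨(injective_iff_map_eq_zero _).2 fun a ha => H23.UnitSec.eq_zero_of_smul_one a ha, hspan⟩).symm
  have heO : eO.symm 1 = o := by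
    show LinearMap.toSpanSingleton R (Φ.obj O) o 1 = o
    simp
  have hb : Function.Bijective (((Φ.mapIso (KFlatLib.tensorUnitIso P)).toLinearEquiv.toLinearMap) ∘ₗ tg O x o P) := by
    refine (Φ.mapIso (KFlatLib.tensorUnitIso P)).toLinearEquiv.bijective.comp
      ((KFlatLib.stalkTensorIso x P O).toLinearEquiv.bijective.comp ?_)
    rw [← heO]
    exact bijective_mk_flip eO
  let τ := LinearEquiv.ofBijective _ hb
  have hg : Function.Bijective (tg P x g P) :=
    (KFlatLib.stalkTensorIso x P P).toLinearEquiv.bijective.comp (bijective_mk_flip ε)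
  let ε₂ := (LinearEquiv.ofBijective _ hg).symm.trans ε
  refine ⟨ε, ε₂, ε (τ.symm g), isUnit_iff_exists_inv.2 ⟨ε (τ g), ?_⟩, fun s w => ?_⟩
  · have h2 : τ.symm g = ε (τ.symm g) • g := by rw [← map_smul, smul_eq_mul, mul_one, ε.symm_apply_apply]
    calc ε (τ.symm g) * ε (τ g) = ε (τ (ε (τ.symm g) • g)) := by rw [map_smul, map_smul, smul_eq_mul]
      _ = 1 := by rw [← h2, τ.apply_symm_apply, ε.apply_symm_apply]
  · obtain ⟨v, rfl⟩ := τ.surjective w
    have h := KFlatLib.stalkTensorIso_naturality (x := x) (𝟙 P) s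
    rw [(DerSch.stalkFunctor X x).map_id, CategoryTheory.Functor.map_id, NatTrans.id_app,
      Category.id_comp, MonoidalCategory.id_tensorHom] at h
    have h1 : Φ.map ((DCoh.tensorBi.obj P).map s) (tg O x o P v) = tg P x (Φ.map s o) P v :=
      (congrArg (fun ψ => ψ.hom (v ⊗ₜ o)) h).symm
    have h2 : Φ.map (mulS s) (τ v) = tg P x (Φ.map s o) P v := by
      rw [← h1]
      show Φ.map (mulS s) (Φ.map (KFlatLib.tensorUnitIso P).hom (tg O x o P v)) = _
      rw [← ConcreteCategory.comp_apply, ← Φ.map_comp, mulS, Iso.hom_inv_id_assoc]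
    have h3 : tg P x (Φ.map s o) P v = ε (Φ.map s o) • tg P x g P v := by
      have e1 : Φ.map s o = ε (Φ.map s o) • g := by
        rw [← map_smul, smul_eq_mul, mul_one, ε.symm_apply_apply]
      conv_lhs => rw [e1]
      show (KFlatLib.stalkTensorIso x P P).toLinearEquiv (v ⊗ₜ (ε (Φ.map s o) • g)) = _
      rw [TensorProduct.tmul_smul, map_smul]
      rfl
    have h4 : ε v = ε (τ.symm g) * ε (τ v) := by
      have e2 : τ v = ε (τ v) • g := by rw [← map_smul, smul_eq_mul, mul_one, ε.symm_apply_apply]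
      conv_lhs => rw [← τ.symm_apply_apply v, e2, map_smul, map_smul, smul_eq_mul, mul_comm]
    show ε₂ (Φ.map (mulS s) (τ v)) = _
    rw [h2, h3, map_smul, smul_eq_mul, ← h4, mul_comm (ε v)]
    exact congrArg (_ * ε ·) ((LinearEquiv.ofBijective _ hg).symm_apply_apply v)

/-- Global sections of a submodule. -/
theorem subsingleton_zero_of_mono {M N : X.Modules} (f : M ⟶ N) [Mono f] (h : Subsingleton (Coh.HH X N 0)) :
    Subsingleton (Coh.HH X M 0) := by
  haveI : Subsingleton Γ(N, ⊤) := (Sheaf.H.equiv₀ (Coh.toAb N) isTerminalTop).symm.toEquiv.subsingleton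
  haveI hM' : Subsingleton Γ(M, ⊤) := ⟨fun a b => QCoh.app_injective f ⊤ (Subsingleton.elim _ _)⟩
  exact @Equiv.subsingleton _ _ (Sheaf.H.equiv₀ (Coh.toAb M) isTerminalTop).toEquiv hM'

/-- A generating family of sections and its Koszul relations. -/
theorem exists_koszul {P : X.Modules} (hP : PicF.IsInvertible P) {r : ℕ} (s : Fin r → (Coh.structureModule X ⟶ P))
    (hgen : ∀ x : X, ∃ l, ∃ ε : (DerSch.stalkFunctor X x).obj P ≃ₗ[X.presheaf.stalk x] X.presheaf.stalk x,
      IsUnit (ε ((DerSch.stalkFunctor X x).map (s l) (H23.UnitSec.one x)))) :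
    ∃ (S : ShortComplex X.Modules)
      (e : S.X₃ ⟶ ⨁ fun _ : ULift.{u} (Fin r × Fin r) => (DCoh.tensorBi.obj P).obj P),
      S.ShortExact ∧ S.X₁ = Coh.structureModule X ∧ S.X₂ = (⨁ fun _ : ULift.{u} (Fin r) => P) ∧ Mono e := by
  classical
  let E₁ := fun _ : ULift.{u} (Fin r) => P
  let σ : Coh.structureModule X ⟶ ⨁ E₁ := biproduct.lift fun i => s i.down
  let d : (⨁ E₁) ⟶ ⨁ fun _ : ULift.{u} (Fin r × Fin r) => (DCoh.tensorBi.obj P).obj P :=
    biproduct.lift fun b => biproduct.π E₁ ⟨b.down.1⟩ ≫ mulS (s b.down.2) - biproduct.π E₁ ⟨b.down.2⟩ ≫ mulS (s b.down.1)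
  have hσπ : ∀ (x : X) i (c : (DerSch.stalkFunctor X x).obj (Coh.structureModule X)),
      (DerSch.stalkFunctor X x).map (biproduct.π E₁ i) ((DerSch.stalkFunctor X x).map σ c) =
        (DerSch.stalkFunctor X x).map (s i.down) c := fun x i c => by
    rw [← ConcreteCategory.comp_apply, ← Functor.map_comp, biproduct.lift_π]
  have hext : ∀ (x : X) (w : (DerSch.stalkFunctor X x).obj (⨁ E₁)),
      (∀ i, (DerSch.stalkFunctor X x).map (biproduct.π E₁ i) w = 0) → w = 0 := fun x w hw => by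
    let Φ := DerSch.stalkFunctor X x
    calc w = Φ.map (∑ b, biproduct.π E₁ b ≫ biproduct.ι E₁ b) w := by
          rw [QCoh.biproduct_total', CategoryTheory.Functor.map_id]; rfl
      _ = 0 := by
          rw [Functor.map_sum]
          refine (LinearMap.congr_fun (ModuleCat.hom_sum _ _) w).trans ?_
          rw [LinearMap.sum_apply]
          refine Finset.sum_eq_zero fun b _ => ?_
          rw [Functor.map_comp]
          show Φ.map (biproduct.ι E₁ b) (Φ.map (biproduct.π E₁ b) w) = 0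
          rw [hw b, map_zero]
  have hone : ∀ (x : X) (c : (DerSch.stalkFunctor X x).obj (Coh.structureModule X)),
      ∃ r : X.presheaf.stalk x, r • (show (DerSch.stalkFunctor X x).obj (Coh.structureModule X) from
        H23.UnitSec.one x) = c := fun x c =>
    Submodule.mem_span_singleton.1 ((H23.UnitSec.span_one x).ge (Submodule.mem_top : c ∈ ⊤))
  have unit : ∀ (x : X) (ε : (DerSch.stalkFunctor X x).obj P ≃ₗ[X.presheaf.stalk x] X.presheaf.stalk x),
      ∃ l, IsUnit (ε ((DerSch.stalkFunctor X x).map (s l) (H23.UnitSec.one x))) := fun x ε => by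
    obtain ⟨l, ε', hu⟩ := hgen x
    refine ⟨l, isUnit_iff_exists_inv.2 ?_⟩
    obtain ⟨b, hb⟩ := isUnit_iff_exists_inv.1 hu
    refine ⟨b * ε' (ε.symm 1), ?_⟩
    have e : ∀ p, ε' p = ε p * ε' (ε.symm 1) := fun p => by
      conv_lhs => rw [show p = ε p • ε.symm 1 by rw [← map_smul, smul_eq_mul, mul_one, ε.symm_apply_apply]]
      rw [map_smul, smul_eq_mul]
    rw [← mul_assoc, mul_comm _ b, mul_assoc, ← e, mul_comm]
    exact hb
  haveI : Mono σ := HomShX.mono_of_stalk _ fun x => by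
    refine (injective_iff_map_eq_zero _).2 fun c hc => ?_
    change (DerSch.stalkFunctor X x).map σ c = 0 at hc
    obtain ⟨ε⟩ := H23.InvStalk.exists_stalk_equiv hP x
    obtain ⟨l, hl⟩ := unit x ε
    obtain ⟨r, rfl⟩ := hone x c
    have h := congrArg ε ((hσπ x ⟨l⟩ _).symm.trans (by rw [hc, map_zero]))
    rw [map_smul, map_smul, map_zero, smul_eq_mul] at h
    rw [(IsUnit.mul_left_eq_zero hl).1 h, zero_smul]
  have hd : ∀ (x : X) (b : ULift.{u} (Fin r × Fin r)) (w : (DerSch.stalkFunctor X x).obj (⨁ E₁)),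
      (DerSch.stalkFunctor X x).map (biproduct.π _ b) ((DerSch.stalkFunctor X x).map d w) =
        (DerSch.stalkFunctor X x).map (mulS (s b.down.2)) ((DerSch.stalkFunctor X x).map (biproduct.π E₁ ⟨b.down.1⟩) w) -
        (DerSch.stalkFunctor X x).map (mulS (s b.down.1)) ((DerSch.stalkFunctor X x).map (biproduct.π E₁ ⟨b.down.2⟩) w) :=
    fun x b w => by
      rw [← ConcreteCategory.comp_apply, ← Functor.map_comp, biproduct.lift_π, Functor.map_sub]
      rw [Functor.map_comp, Functor.map_comp]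
      rfl
  have h0 : σ ≫ d = 0 := by
    refine biproduct.hom_ext _ _ fun b => DepthTwist.hom_ext_stalk _ _ fun x => ?_
    obtain ⟨ε, ε₂, a, ha, hm⟩ := stalk_mulS hP x
    rw [zero_comp, Functor.map_zero, Functor.map_comp, Functor.map_comp]
    ext c
    obtain ⟨r, rfl⟩ := hone x c
    show (DerSch.stalkFunctor X x).map (biproduct.π _ b) ((DerSch.stalkFunctor X x).map d
      ((DerSch.stalkFunctor X x).map σ _)) = 0
    refine ε₂.injective ?_
    rw [hd, hσπ, hσπ, map_sub, map_zero, hm, hm, sub_eq_zero]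
    simp only [map_smul, smul_eq_mul]
    ring
  let S := ShortComplex.mk σ (cokernel.π σ) (cokernel.condition σ)
  refine ⟨S, cokernel.desc σ d h0, { exact := ShortComplex.exact_cokernel σ }, rfl, rfl,
    HomShX.mono_of_stalk _ fun x => ?_⟩
  refine (injective_iff_map_eq_zero _).2 fun c hc => ?_
  let Φ := DerSch.stalkFunctor X x
  change Φ.map (cokernel.desc σ d h0) c = 0 at hc
  obtain ⟨w, rfl⟩ := (ModuleCat.epi_iff_surjective (Φ.map (cokernel.π σ))).1 inferInstance c
  rw [← ConcreteCategory.comp_apply, ← Φ.map_comp, cokernel.π_desc] at hc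
  obtain ⟨ε, ε₂, a, ha, hm⟩ := stalk_mulS hP x
  obtain ⟨l, hl⟩ := unit x ε
  obtain ⟨b, hb⟩ := isUnit_iff_exists_inv.1 hl
  let sv := fun i => ε (Φ.map (s i) (H23.UnitSec.one x))
  let wv := fun i : Fin r => ε (Φ.map (biproduct.π E₁ ⟨i⟩) w)
  have hrel : ∀ i, wv i * sv l = wv l * sv i := fun i => by
    have h := hd x ⟨(i, l)⟩ w
    rw [hc, map_zero] at h
    have h2 := congrArg ε₂ h.symm
    rw [map_sub, map_zero, hm, hm, sub_eq_zero] at h2
    exact ha.mul_left_cancel (by rw [← mul_assoc, ← mul_assoc]; exact h2)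
  have hw : w = Φ.map σ ((wv l * b) • (show Φ.obj (Coh.structureModule X) from H23.UnitSec.one x)) := by
    refine sub_eq_zero.1 (hext x _ fun i => ?_)
    rw [map_sub, hσπ, sub_eq_zero]
    refine ε.injective ?_
    rw [map_smul, map_smul, smul_eq_mul]
    show wv i.down = wv l * b * sv i.down
    rw [mul_right_comm, ← hrel i.down, mul_assoc, show sv l * b = 1 from hb, mul_one]
  rw [hw, ← ConcreteCategory.comp_apply, ← Φ.map_comp, cokernel.condition, Functor.map_zero]
  rfl

/-- Invertible modules inherit the vanishing of negative twists in degrees zero and one. -/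
theorem van_invertible {Y : Scheme.{u}} [IsLocallyNoetherian Y] [CompactSpace Y] {L M : Y.Modules}
    (hamp : CohB1.IsAmple L) (hM : PicF.IsInvertible M) (hLM : PicF.cl L * PicF.cl M = 1)
    (h : ∀ i, i ≤ 1 → ∃ j₀, ∀ j, j₀ ≤ j → Van i (PicF.cl M ^ j)) :
    ∀ i, i ≤ 1 → ∀ N : Y.Modules, PicF.IsInvertible N → ∃ j₀, ∀ j, j₀ ≤ j → Van i (PicF.cl N * PicF.cl M ^ j) := by
  classical
  haveI := AmpleX.isSeparated_of_isAmple hamp
  obtain ⟨jh, hjh⟩ : ∃ jh, ∀ i, i ≤ 1 → ∀ j, jh ≤ j → Van i (PicF.cl M ^ j) := by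
    obtain ⟨a, ha⟩ := h 0 (by omega)
    obtain ⟨b, hb⟩ := h 1 le_rfl
    exact ⟨max a b, fun i hi j hj => by
      interval_cases i
      · exact ha j (le_trans (le_max_left _ _) hj)
      · exact hb j (le_trans (le_max_right _ _) hj)⟩
  have data : ∀ N : Y.Modules, PicF.IsInvertible N → ∃ (a r : ℕ) (P : Y.Modules) (S : ShortComplex Y.Modules)
      (e : S.X₃ ⟶ ⨁ fun _ : ULift.{u} (Fin r × Fin r) => (DCoh.tensorBi.obj P).obj P),
      PicF.IsInvertible P ∧ PicF.cl P * PicF.cl N = PicF.cl L ^ a ∧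
      S.ShortExact ∧ S.X₁ = Coh.structureModule Y ∧ S.X₂ = (⨁ fun _ : ULift.{u} (Fin r) => P) ∧ Mono e := by
    intro N hN
    obtain ⟨N', hN', ⟨eN⟩⟩ := H23.PicInv.exists_inverse hN
    obtain ⟨a, ha⟩ := AmpleX.eventually_generated hamp (CurveDeg.isCoh_of_isInvertible hN').1
      (CurveDeg.isCoh_of_isInvertible hN').2
    obtain ⟨G, iso, κ, t, ht⟩ := ha a le_rfl
    let P := CohB1.tensorMod N' (CohB1.tensorPow L a)
    have hP : PicF.IsInvertible P := InvX.isInvertible_tensorMod hN' (InvX.isInvertible_tensorPow hamp.1 a)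
    have hG : Coh.IsCoh G := SheafHomX.isCoh_of_iso iso.symm (CurveDeg.isCoh_of_isInvertible hP)
    obtain ⟨r, j, hj⟩ := AmpleVan.exists_fin_generatedBy hG t ht
    let s : Fin r → (Coh.structureModule Y ⟶ P) := fun k => InvX.ofSect (iso.hom.app ⊤ (t (j k)))
    let O := fun _ : ULift.{u} (Fin r) => Coh.structureModule Y
    let ψ : (⨁ O) ⟶ P := biproduct.desc fun k => s k.down
    have hψ : Epi ψ := by
      haveI : Epi (ψ ≫ iso.inv) := InvX.epi_of_generated hj _ (fun k => biproduct.ι O ⟨k⟩) fun k => by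
        rw [biproduct.ι_desc_assoc, AmpleVan.one_comp, InvX.one_ofSect]
        exact congr(($(iso.hom_inv_id)).app ⊤ (t (j k)))
      have e : ψ = (ψ ≫ iso.inv) ≫ iso.hom := by rw [Category.assoc, Iso.inv_hom_id, Category.comp_id]
      rw [e]; infer_instance
    have hgen : ∀ y : Y, ∃ l, ∃ ε : (DerSch.stalkFunctor Y y).obj P ≃ₗ[Y.presheaf.stalk y] Y.presheaf.stalk y,
        IsUnit (ε ((DerSch.stalkFunctor Y y).map (s l) (H23.UnitSec.one y))) := fun y => by
      let Φ := DerSch.stalkFunctor Y y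
      obtain ⟨ε⟩ := H23.InvStalk.exists_stalk_equiv hP y
      by_contra hcon
      push Not at hcon
      haveI := hψ
      obtain ⟨v, hv⟩ := (ModuleCat.epi_iff_surjective (Φ.map ψ)).1 inferInstance (ε.symm 1)
      have hmem : ε (Φ.map ψ v) ∈ IsLocalRing.maximalIdeal (Y.presheaf.stalk y) := by
        rw [show v = Φ.map (∑ b, biproduct.π O b ≫ biproduct.ι O b) v by
          rw [QCoh.biproduct_total', CategoryTheory.Functor.map_id]; rfl]
        rw [Functor.map_sum, show (∀ z, (∑ b, Φ.map (biproduct.π O b ≫ biproduct.ι O b)) z =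
            ∑ b, Φ.map (biproduct.π O b ≫ biproduct.ι O b) z) from fun z =>
            (LinearMap.congr_fun (ModuleCat.hom_sum _ _) z).trans (LinearMap.sum_apply _ _ _), map_sum, map_sum]
        refine Ideal.sum_mem _ fun b _ => ?_
        rw [← ConcreteCategory.comp_apply, ← Φ.map_comp, Category.assoc, biproduct.ι_desc, Φ.map_comp]
        obtain ⟨c, hc⟩ := Submodule.mem_span_singleton.1 ((H23.UnitSec.span_one y).ge
          (Submodule.mem_top : (show (Coh.structureModule Y).presheaf.stalk y from Φ.map (biproduct.π O b) v) ∈ ⊤))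
        show ε (Φ.map (s b.down) (Φ.map (biproduct.π O b) v)) ∈ _
        rw [← show c • (show Φ.obj (Coh.structureModule Y) from H23.UnitSec.one y) = Φ.map (biproduct.π O b) v from hc,
          map_smul, map_smul, smul_eq_mul]
        exact Ideal.mul_mem_left _ _ ((IsLocalRing.mem_maximalIdeal _).2 (hcon b.down ε))
      rw [hv, ε.apply_symm_apply] at hmem
      exact hmem isUnit_one
    obtain ⟨S, e, hS, h1, h2, he⟩ := exists_koszul hP s hgen
    refine ⟨a, r, P, S, e, hP, ?_, hS, h1, h2, he⟩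
    rw [cl_tensor, cl_tensorPow, mul_right_comm, mul_comm (PicF.cl N'), ← cl_tensor,
      cl_eq_iff.2 ⟨eN⟩, ← H23.PicMul.one_def, one_mul]
  have hlm : ∀ a j : ℕ, a ≤ j → PicF.cl L ^ a * PicF.cl M ^ j = PicF.cl M ^ (j - a) := fun a j haj => by
    rw [show PicF.cl M ^ j = PicF.cl M ^ a * PicF.cl M ^ (j - a) by rw [← pow_add, Nat.add_sub_cancel' haj],
      ← mul_assoc, ← mul_pow, hLM, one_pow, one_mul]
  -- the twist by `N ⊗ M^j` of a sum of copies of `P`
  have sum : ∀ {β : Type u} [Fintype β] (Q P : Y.Modules), PicF.IsInvertible Q → ∀ i,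
      Van i (PicF.cl P * PicF.cl Q) → Subsingleton (Coh.HH Y ((AmpleVan.tw Q).obj (⨁ fun _ : β => P)) i) := by
    intro β _ Q P hQ i hv
    haveI := AmpleVan.isEquivalence_tw hQ
    let T := AmpleVan.tw Q
    haveI : T.Additive := Functor.additive_of_preserves_binary_products _
    refine PnCoh.Finite.subsingleton_HH_of_decomposition (fun _ : β => T.obj P)
      (fun b => T.map (biproduct.π _ b)) (fun b => T.map (biproduct.ι (fun _ : β => P) b)) ?_ i
      fun b => hv _ (cl_tw Q P)
    simp only [← Functor.map_comp, ← Functor.map_sum]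
    rw [QCoh.biproduct_total', CategoryTheory.Functor.map_id]
  have zero : ∀ N : Y.Modules, PicF.IsInvertible N → ∃ j₀, ∀ j, j₀ ≤ j → Van 0 (PicF.cl N * PicF.cl M ^ j) := by
    intro N hN
    obtain ⟨a, r, P, S, e, hP, hPN, hS, h1, h2, -⟩ := data N hN
    refine ⟨jh + a, fun j hj => ?_⟩
    let Q := CohB1.tensorMod N (CohB1.tensorPow M j)
    have hQ : PicF.IsInvertible Q := InvX.isInvertible_tensorMod hN (InvX.isInvertible_tensorPow hM j)
    haveI := AmpleVan.isEquivalence_tw hQ
    haveI := (hS.map_of_exact (AmpleVan.tw Q)).mono_f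
    refine van_of 0 ((AmpleVan.tw Q).obj S.X₁) (subsingleton_zero_of_mono ((S.map (AmpleVan.tw Q)).f) ?_) ?_
    · show Subsingleton (Coh.HH Y ((AmpleVan.tw Q).obj S.X₂) 0)
      rw [h2]
      refine sum Q P hQ 0 (fun Z hZ => hjh 0 (by omega) (j - a) (by omega) Z (hZ.trans ?_))
      rw [cl_tensor, cl_tensorPow, ← mul_assoc, hPN, hlm a j (by omega)]
    · rw [h1, cl_tw, cl_tensor, cl_tensorPow, ← H23.PicMul.one_def, one_mul]
  intro i hi N hN
  interval_cases i
  · exact zero N hN
  obtain ⟨a, r, P, S, e, hP, hPN, hS, h1, h2, he⟩ := data N hN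
  obtain ⟨N', hN', ⟨eN⟩⟩ := H23.PicInv.exists_inverse hN
  have hNN' : PicF.cl N * PicF.cl N' = 1 := by rw [← cl_tensor, H23.PicMul.one_def]; exact cl_eq_iff.2 ⟨eN⟩
  obtain ⟨j', hj'⟩ := zero N' hN'
  refine ⟨jh + a + j' + 2 * a, fun j hj => ?_⟩
  let Q := CohB1.tensorMod N (CohB1.tensorPow M j)
  have hQ : PicF.IsInvertible Q := InvX.isInvertible_tensorMod hN (InvX.isInvertible_tensorPow hM j)
  haveI := AmpleVan.isEquivalence_tw hQ
  haveI : Mono ((AmpleVan.tw Q).map e) := inferInstance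
  refine van_of 1 ((AmpleVan.tw Q).obj S.X₁) (subsingleton_X₁ (hS.map_of_exact (AmpleVan.tw Q)) 0 ?_
    (subsingleton_zero_of_mono ((AmpleVan.tw Q).map e) (sum Q _ hQ 0 fun Z hZ => hj' (j - 2 * a) (by omega) Z
      (hZ.trans ?_)))) ?_
  · show Subsingleton (Coh.HH Y ((AmpleVan.tw Q).obj S.X₂) 1)
    rw [h2]
    refine sum Q P hQ 1 (fun Z hZ => hjh 1 le_rfl (j - a) (by omega) Z (hZ.trans ?_))
    rw [cl_tensor, cl_tensorPow, ← mul_assoc, hPN, hlm a j (by omega)]
  · have hP2 : PicF.cl P * PicF.cl P * PicF.cl N = PicF.cl N' * PicF.cl L ^ (2 * a) := by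
      rw [two_mul, pow_add, ← hPN, ← mul_assoc, mul_comm (PicF.cl N') (_ * _), mul_assoc (PicF.cl P) _ (PicF.cl N'),
        hNN', mul_one, ← mul_assoc]
    rw [show PicF.cl ((DCoh.tensorBi.obj P).obj P) = PicF.cl P * PicF.cl P from cl_tensor P P, cl_tensor,
      cl_tensorPow, ← mul_assoc, hP2, mul_assoc, hlm (2 * a) j (by omega)]
  · rw [h1, cl_tw, cl_tensor, cl_tensorPow, ← H23.PicMul.one_def, one_mul]

/-- Vanishing on a closed subscheme and on the ambient scheme. -/
theorem van_push {Y : Scheme.{u}} (ι : Y ⟶ X) [IsClosedImmersion ι] {N : Y.Modules} (hN : Coh.IsQCoh N)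
    {P : X.Modules} (hP : PicF.IsInvertible P) (i : ℕ) :
    Van i (PicF.cl ((Scheme.Modules.pushforward ι).obj N) * PicF.cl P) ↔
      Van i (PicF.cl N * PicF.pullCl ι (PicF.cl P)) := by
  have hq : Coh.IsQCoh (CohB1.tensorMod N ((Scheme.Modules.pullback ι).obj P)) :=
    KFlatLib.isQCoh_tensor hN (ProjUPX.isQCoh_of_isInvertible (PicClLib.isInvertible_pullback ι hP))
  obtain ⟨e⟩ := QCoh.HH_push_of_isAffineHom ι hq i
  have hi := KFlatLib.isIso_projMod_of_isClosedImmersion ι N P
  let c : CohB1.tensorMod ((Scheme.Modules.pushforward ι).obj N) P ≅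
      (Scheme.Modules.pushforward ι).obj (CohB1.tensorMod N ((Scheme.Modules.pullback ι).obj P)) :=
    @asIso _ _ _ _ (KFlatLib.projMod ι N P) hi
  have hcl : PicF.cl (CohB1.tensorMod N ((Scheme.Modules.pullback ι).obj P)) =
      PicF.cl N * PicF.pullCl ι (PicF.cl P) := cl_tensor _ _
  constructor
  · intro hv
    have h1 : Subsingleton (Coh.HH X ((Coh.push ι).obj (CohB1.tensorMod N ((Scheme.Modules.pullback ι).obj P))) i) :=
      hv _ ((cl_eq_iff.2 ⟨c.symm⟩).trans (cl_tensor _ _))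
    exact van_of i _ e.toEquiv.subsingleton hcl
  · intro hv
    have h1 := hv _ hcl
    exact van_of i _ (e.symm.toEquiv.subsingleton : Subsingleton (Coh.HH X ((Coh.push ι).obj _) i))
      ((cl_eq_iff.2 ⟨c.symm⟩).trans (cl_tensor _ _))

end Groth.Agent.FormalAlg
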