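import Groth.Agent.FormalAlg.Sys

/-!
# Multiplication by the ideal between the levels
-/

set_option linter.style.haveILetI false
set_option linter.unusedSectionVars false
set_option backward.isDefEq.respectTransparency false
set_option backward.isDefEq.respectTransparency.types false

universe u

open CategoryTheory CategoryTheory.Limits AlgebraicGeometry TopologicalSpace Opposite
open Groth.Agent.H23.PicMul

noncomputable section

namespace Groth.Agent.FormalAlg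

open Groth.Agent

variable {X : Scheme.{u}} {J : X.IdealSheafData}

theorem mu_natural {G G' : X.Modules} (f : G ⟶ G') :
    (DCoh.tensorBi.map f).app (ClSub.idealMod J) ≫ mu J G' = mu J G ≫ f := by
  have h : (KFlatLib.tensorUnitIso G).hom ≫ f =
      (DCoh.tensorBi.map f).app (Coh.structureModule X) ≫ (KFlatLib.tensorUnitIso G').hom := by
    exact tensorUnitIso_natural f
  rw [mu, mu, Category.assoc, h, ← NatTrans.naturality_assoc]
where
  tensorUnitIso_natural {G G' : X.Modules} (f : G ⟶ G') :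
      (KFlatLib.tensorUnitIso G).hom ≫ f =
        (DCoh.tensorBi.map f).app (Coh.structureModule X) ≫ (KFlatLib.tensorUnitIso G').hom := by
    exact ((KFlatLib.tensorStructureIso X).hom.naturality f).symm

variable (S : LevelSys J)

/-- `G k ⊗ I`. -/
abbrev LevelSys.GI (k : ℕ) : X.Modules := (DCoh.tensorBi.obj (S.G k)).obj (ClSub.idealMod J)

/-- The transition maps tensored with the ideal. -/
abbrev LevelSys.ρI (k : ℕ) : S.GI (k + 1) ⟶ S.GI k := (DCoh.tensorBi.map (S.ρ k)).app (ClSub.idealMod J)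

variable (hJ : PicF.IsInvertible (ClSub.idealMod J))
include hJ

theorem LevelSys.epi_ρI (k : ℕ) : Epi (S.ρI k) := by
  refine HomShX.epi_of_stalk _ fun x => ?_
  obtain ⟨W, hx⟩ := exists_affine x
  obtain ⟨t, g, ht, -, hl, hσ⟩ := exists_gen J hJ W hx
  intro u
  obtain ⟨v, rfl⟩ := (hl (S.G k)).2 u
  obtain ⟨w, rfl⟩ := S.surj k x v
  exact ⟨tg _ x g _ w, tg_natural _ x g (S.ρ k) w⟩

theorem LevelSys.kernel_ρI_mu (k : ℕ) : kernel.ι (S.ρI k) ≫ mu J (S.G (k + 1)) = 0 := by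
  refine DepthTwist.hom_ext_stalk _ _ fun x => ?_
  obtain ⟨W, hx⟩ := exists_affine x
  obtain ⟨t, g, ht, -, hl, hσ⟩ := exists_gen J hJ W hx
  rw [Functor.map_comp, Functor.map_zero]
  ext u
  have h0 : (DerSch.stalkFunctor X x).map (S.ρI k) ((DerSch.stalkFunctor X x).map (kernel.ι (S.ρI k)) u) = 0 := by
    rw [← ConcreteCategory.comp_apply, ← Functor.map_comp, kernel.condition, Functor.map_zero]
    rfl
  obtain ⟨v, hv⟩ := (hl (S.G (k + 1))).2 ((DerSch.stalkFunctor X x).map (kernel.ι (S.ρI k)) u)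
  rw [← hv, tg_natural] at h0
  have h1 : (DerSch.stalkFunctor X x).map (S.ρ k) v = 0 := (hl (S.G k)).1 (h0.trans (map_zero _).symm)
  obtain ⟨w, hw⟩ := (mem_pow_smul_top ht _ _).1 (S.ker k W x hx v h1)
  obtain ⟨σ, hσ'⟩ := hσ (S.G (k + 1))
  show (DerSch.stalkFunctor X x).map (mu J (S.G (k + 1))) ((DerSch.stalkFunctor X x).map (kernel.ι (S.ρI k)) u) = 0
  rw [← hv, hσ', ← hw, map_smul, smul_smul, ← pow_succ', smul_of_killed ht (k + 1 + 1) (S.killed (k + 1) W x hx)]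

/-- `G k ⊗ I → G (k + 1)`. -/
def LevelSys.psi (k : ℕ) : S.GI k ⟶ S.G (k + 1) :=
  haveI := S.epi_ρI hJ k
  Abelian.epiDesc (S.ρI k) (mu J (S.G (k + 1))) (S.kernel_ρI_mu hJ k)

theorem LevelSys.ρI_psi (k : ℕ) : S.ρI k ≫ S.psi hJ k = mu J (S.G (k + 1)) :=
  haveI := S.epi_ρI hJ k
  Abelian.comp_epiDesc _ _ _

theorem LevelSys.psi_comm (k : ℕ) : S.psi hJ (k + 1) ≫ S.ρ (k + 1) = S.ρI k ≫ S.psi hJ k := by
  haveI := S.epi_ρI hJ (k + 1)
  rw [← cancel_epi (S.ρI (k + 1)), ← Category.assoc, ρI_psi, ρI_psi, ← mu_natural]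

theorem LevelSys.stalk_psi (k : ℕ) {W : X.affineOpens} {x : X} (hx : x ∈ W.1) :
    ∃ (t : X.presheaf.stalk x) (l : (DerSch.stalkFunctor X x).obj (S.G (k + 1)) → (DerSch.stalkFunctor X x).obj (S.GI k))
      (σ : (DerSch.stalkFunctor X x).obj (S.G (k + 1)) ≃ₗ[X.presheaf.stalk x] (DerSch.stalkFunctor X x).obj (S.G (k + 1))),
      DepthTwist.stI J W hx = Ideal.span {t} ∧ Function.Surjective l ∧
      (∀ v, l v = 0 ↔ (DerSch.stalkFunctor X x).map (S.ρ k) v = 0) ∧
      ∀ v, (DerSch.stalkFunctor X x).map (S.psi hJ k) (l v) = t • σ v := by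
  obtain ⟨t, g, ht, -, hl, hσ⟩ := exists_gen J hJ W hx
  obtain ⟨σ, hσ'⟩ := hσ (S.G (k + 1))
  refine ⟨t, fun v => tg _ x g (S.G k) ((DerSch.stalkFunctor X x).map (S.ρ k) v), σ, ht,
    (hl _).2.comp (S.surj k x), fun v => ⟨fun h => (hl _).1 (h.trans (map_zero _).symm), fun h => ?_⟩, fun v => ?_⟩
  · show tg _ x g (S.G k) ((DerSch.stalkFunctor X x).map (S.ρ k) v) = 0
    rw [h, map_zero]
  · show (DerSch.stalkFunctor X x).map (S.psi hJ k) (tg _ x g (S.G k) ((DerSch.stalkFunctor X x).map (S.ρ k) v)) = t • σ v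
    rw [← tg_natural, ← ConcreteCategory.comp_apply, ← Functor.map_comp, S.ρI_psi, hσ']

theorem LevelSys.psi_pr (k : ℕ) : S.psi hJ k ≫ S.pr (k + 1) = 0 := by
  refine DepthTwist.hom_ext_stalk _ _ fun x => ?_
  obtain ⟨W, hx⟩ := exists_affine x
  obtain ⟨t, l, σ, ht, hl, -, hψ⟩ := S.stalk_psi hJ k hx
  rw [Functor.map_comp, Functor.map_zero]
  ext u
  obtain ⟨v, rfl⟩ := hl u
  show (DerSch.stalkFunctor X x).map (S.pr (k + 1)) ((DerSch.stalkFunctor X x).map (S.psi hJ k) (l v)) = 0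
  rw [hψ]
  exact (S.pr_ker hx ht (k + 1) _).2 ⟨σ v, rfl⟩

/-- `0 → G k ⊗ I → G (k+1) → G 0 → 0`. -/
theorem LevelSys.shortExact_psi (k : ℕ) :
    (ShortComplex.mk (S.psi hJ k) (S.pr (k + 1)) (S.psi_pr hJ k)).ShortExact := by
  haveI := S.epi_pr (k + 1)
  haveI : Mono (S.psi hJ k) := HomShX.mono_of_stalk _ fun x => by
    obtain ⟨W, hx⟩ := exists_affine x
    obtain ⟨t, l, σ, ht, hl, hl0, hψ⟩ := S.stalk_psi hJ k hx
    refine (injective_iff_map_eq_zero _).2 fun u hu => ?_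
    obtain ⟨v, rfl⟩ := hl u
    change (DerSch.stalkFunctor X x).map (S.psi hJ k) (l v) = 0 at hu
    rw [hψ] at hu
    obtain ⟨w, hw⟩ := (mem_pow_smul_top ht _ _).1 (S.regular k W x hx (σ v) fun r hr => by
      rw [ht, Ideal.mem_span_singleton'] at hr
      obtain ⟨a, rfl⟩ := hr
      rw [mul_smul, hu, smul_zero])
    refine (hl0 v).2 ?_
    rw [← σ.symm_apply_apply v, ← hw, map_smul, map_smul, smul_of_killed ht (k + 1) (S.killed k W x hx)]
  let p := S.pr (k + 1)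
  let L := kernel.lift p (S.psi hJ k) (S.psi_pr hJ k)
  haveI : Epi L := HomShX.epi_of_stalk _ fun x u => by
    obtain ⟨W, hx⟩ := exists_affine x
    obtain ⟨t, l, σ, ht, hl, -, hψ⟩ := S.stalk_psi hJ k hx
    have h0 : (DerSch.stalkFunctor X x).map p ((DerSch.stalkFunctor X x).map (kernel.ι p) u) = 0 := by
      rw [← ConcreteCategory.comp_apply, ← Functor.map_comp, kernel.condition, Functor.map_zero]
      rfl
    obtain ⟨w, hw⟩ := (S.pr_ker hx ht (k + 1) _).1 h0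
    refine ⟨l (σ.symm w), stalk_kernel_injective p x ?_⟩
    show (DerSch.stalkFunctor X x).map (kernel.ι p) ((DerSch.stalkFunctor X x).map L (l (σ.symm w))) = _
    rw [← ConcreteCategory.comp_apply, ← Functor.map_comp, kernel.lift_ι, hψ, σ.apply_symm_apply, hw]
  exact { exact := (ShortComplex.exact_iff_epi_kernel_lift _).2 inferInstance }

theorem LevelSys.nonempty_kernel_step (k : ℕ) :
    Nonempty (kernel (S.ρ (k + 1)) ≅ kernel (S.ρI k)) := by
  have hc : (S.ρI k) ≫ S.psi hJ k = S.psi hJ (k + 1) ≫ S.ρ (k + 1) := (S.psi_comm hJ k).symm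
  haveI := (S.shortExact_psi hJ k).mono_f
  haveI := (S.shortExact_psi hJ (k + 1)).mono_f
  let a : kernel (S.ρI k) ⟶ kernel (S.ρ (k + 1)) := kernel.map _ _ (S.psi hJ (k + 1)) (S.psi hJ k) hc
  have ha : a ≫ kernel.ι (S.ρ (k + 1)) = kernel.ι (S.ρI k) ≫ S.psi hJ (k + 1) := kernel.lift_ι _ _ _
  haveI : Mono (a ≫ kernel.ι (S.ρ (k + 1))) := by rw [ha]; infer_instance
  haveI : Mono a := mono_of_mono a (kernel.ι (S.ρ (k + 1)))
  -- a kernel element of `ρ` lies in the image of `ψ`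
  have h0 : kernel.ι (S.ρ (k + 1)) ≫ S.pr (k + 1 + 1) = 0 := by
    rw [LevelSys.pr, kernel.condition_assoc, zero_comp]
  let E := (S.shortExact_psi hJ (k + 1))
  let b : kernel (S.ρ (k + 1)) ⟶ S.GI (k + 1) := E.fIsKernel.lift (KernelFork.ofι (kernel.ι (S.ρ (k + 1))) h0)
  have hb : b ≫ S.psi hJ (k + 1) = kernel.ι (S.ρ (k + 1)) :=
    E.fIsKernel.fac (KernelFork.ofι (kernel.ι (S.ρ (k + 1))) h0) WalkingParallelPair.zero
  have hb0 : b ≫ S.ρI k = 0 := by
    rw [← cancel_mono (S.psi hJ k), Category.assoc, hc, ← Category.assoc, hb, kernel.condition, zero_comp]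
  let b' := kernel.lift (S.ρI k) b hb0
  have hba : b' ≫ a = 𝟙 _ := by
    rw [← cancel_mono (kernel.ι (S.ρ (k + 1))), Category.assoc, ha, ← Category.assoc, kernel.lift_ι, hb, Category.id_comp]
  haveI : IsSplitEpi a := ⟨⟨b', hba⟩⟩
  haveI : IsIso a := isIso_of_mono_of_epi a
  exact ⟨(asIso a).symm⟩

/-- The class of the kernel of a transition map. -/
theorem LevelSys.cl_kernel : ∀ k : ℕ,
    PicF.cl (kernel (S.ρ k)) = PicF.cl (S.G 0) * PicF.cl (ClSub.idealMod J) ^ (k + 1) := by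
  intro k
  induction k with
  | zero =>
    let E := S.shortExact_psi hJ 0
    have h : S.pr (0 + 1) = S.ρ 0 := Category.comp_id _
    let e : S.GI 0 ≅ kernel (S.ρ 0) :=
      E.fIsKernel.conePointUniqueUpToIso (kernelIsKernel (S.pr (0 + 1))) ≪≫ kernelIsoOfEq h
    rw [← cl_eq_iff.2 ⟨e⟩, zero_add, pow_one]
    exact cl_tensor _ _
  | succ k ih =>
    obtain ⟨e⟩ := S.nonempty_kernel_step hJ k
    haveI := AmpleVan.isEquivalence_tw hJ
    let T := AmpleVan.tw (ClSub.idealMod J)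
    haveI : PreservesLimit (parallelPair (S.ρ k) 0) T := inferInstance
    let e2 : T.obj (kernel (S.ρ k)) ≅ kernel (S.ρI k) := PreservesKernel.iso T (S.ρ k)
    rw [cl_eq_iff.2 ⟨e ≪≫ e2.symm⟩,
      show PicF.cl (T.obj (kernel (S.ρ k))) = PicF.cl (CohB1.tensorMod (kernel (S.ρ k)) (ClSub.idealMod J)) from rfl,
      cl_tensor, ih, mul_assoc, ← pow_succ]

end Groth.Agent.FormalAlg
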