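import Groth.Agent.FormalAlg.Levels
import Groth.Agent.FormalAlg.Psi
import Groth.Agent.FormalAlg.InvTwist
import Groth.Agent.FComplLib.LocFreeLevels
import Groth.Agent.LefLib.Algebraize
import Groth.Agent.ParaExt.Local
import Groth.Agent.ParaFX.Closed

/-!
# Algebraized line bundles and their extension
-/

set_option linter.style.haveILetI false
set_option linter.unusedSectionVars false
set_option backward.isDefEq.respectTransparency false
set_option backward.isDefEq.respectTransparency.types false

universe u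

open CategoryTheory CategoryTheory.Limits AlgebraicGeometry TopologicalSpace Opposite
open Groth.Agent.H23.PicMul

noncomputable section

namespace Groth.Agent.FormalAlg

open Groth.Agent

variable {X : Scheme.{u}}

/-- The class of the kernel of a transition map of a twisted structure module. -/
theorem cl_kernel_levels [IsLocallyNoetherian X] (J : X.IdealSheafData) (hJ : PicF.IsInvertible (ClSub.idealMod J))
    (D : X.Modules) (hD : FlatMod.IsFinLocFree D) (m : ℕ) :
    PicF.cl (kernel ((AmpleVan.tw D).map (Lef.quotMap (I := J ^ (m + 1 + 1)) (J := J ^ (m + 1)) (Lef.pow_succ_le J m)))) =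
      PicF.cl ((AmpleVan.tw D).obj (ClSub.quotMod (J ^ (0 + 1)))) * PicF.cl (ClSub.idealMod J) ^ (m + 1) := by
  have h := (levels J hJ D hD).cl_kernel hJ m
  unfold levels at h
  exact h

/-- The class of the kernel of a transition map of the structure module. -/
theorem cl_kernel_quotMap [IsLocallyNoetherian X] (J : X.IdealSheafData) (hJ : PicF.IsInvertible (ClSub.idealMod J))
    (m : ℕ) :
    PicF.cl (kernel (Lef.quotMap (I := J ^ (m + 1 + 1)) (J := J ^ (m + 1)) (Lef.pow_succ_le J m))) =
      PicF.cl (ClSub.quotMod J) * PicF.cl (ClSub.idealMod J) ^ (m + 1) := by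
  let O := Coh.structureModule X
  let T := AmpleVan.tw O
  haveI := AmpleVan.isEquivalence_tw (InvX.isInvertible_structureModule (X := X))
  let q := Lef.quotMap (I := J ^ (m + 1 + 1)) (J := J ^ (m + 1)) (Lef.pow_succ_le J m)
  haveI : PreservesLimit (parallelPair q 0) T := inferInstance
  let e : kernel q ≅ kernel (T.map q) := (AmpleVan.twUnit.app (kernel q)).symm ≪≫ PreservesKernel.iso T q
  rw [cl_eq_iff.2 ⟨e⟩]
  refine (cl_kernel_levels J hJ O (H23.PullPush.isFinLocFree_of_isInvertible InvX.isInvertible_structureModule) m).trans ?_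
  rw [cl_tw, zero_add, pow_one, ← H23.PicMul.one_def, mul_one]

/-- Near the closed subscheme a module with invertible completion is invertible. -/
theorem exists_open_invertible [IsLocallyNoetherian X] (J : X.IdealSheafData) {M : X.Modules} (hM : Coh.IsCoh M)
    (𝔐 : FSch.ModSys (FSch.completionAlong X J)) (h : ∀ n, PicF.IsInvertible (𝔐.F n))
    (hiso : Nonempty (FSch.complMod J M ≅ 𝔐)) :
    ∃ U : X.Opens, (J.support : Set X) ⊆ U ∧ PicF.IsInvertible (M.restrict U.ι) := by
  obtain ⟨φ⟩ := hiso
  have hlev : ∀ n, PicF.IsInvertible ((Scheme.Modules.pullback (FSch.completionToX X J n)).obj M) := fun n => by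
    have e : (FSch.complMod J M).F n ≅ 𝔐.F n :=
      ⟨φ.hom.app n, φ.inv.app n, congrArg (fun f => FSch.ModSys.Hom.app f n) φ.hom_inv_id,
        congrArg (fun f => FSch.ModSys.Hom.app f n) φ.inv_hom_id⟩
    exact H23.PicMul.isInvertible_of_iso e.symm (h n)
  have hone : ∀ n, FlatMod.IsFinLocFreeOfRank 1 ((Scheme.Modules.pullback (FSch.completionToX X J n)).obj M) :=
    fun n z => by
      obtain ⟨U, hz, ⟨e⟩⟩ := hlev n z
      exact ⟨U, hz, ⟨e ≪≫ (coproductUniqueIso fun _ : Fin 1 => Coh.structureModule (U : Scheme.{u})).symm⟩⟩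
  have key : ∀ x : (J.support : Set X), ∃ V : X.Opens, x.1 ∈ V ∧
      Nonempty (M.restrict V.ι ≅ FlatMod.freeMod (V : Scheme.{u}) 1) := fun x =>
    FComplLib.exists_free_of_levels hM J 1 hone x.2
  choose V hV hfree using key
  refine ⟨⨆ x, V x, fun x hx => Opens.mem_iSup.2 ⟨⟨x, hx⟩, hV _⟩, ?_⟩
  refine ParaFX.isInvertible_of_cover (fun x => (⨆ x, V x).ι ⁻¹ᵁ V x) (fun u => ?_) fun x => ?_
  · obtain ⟨x, hx⟩ := Opens.mem_iSup.1 u.2
    exact ⟨x, hx⟩
  let T := (⨆ x, V x).ι ⁻¹ᵁ V x
  let a := T.ι ≫ (⨆ x, V x).ι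
  have hr : Set.range a ⊆ Set.range (V x).ι := by
    rintro _ ⟨z, rfl⟩
    rw [Scheme.Opens.range_ι]
    exact z.2
  let b := IsOpenImmersion.lift (V x).ι a hr
  have hb : b ≫ (V x).ι = a := IsOpenImmersion.lift_fac _ _ _
  haveI : IsOpenImmersion (b ≫ (V x).ι) := by rw [hb]; infer_instance
  haveI : IsOpenImmersion b := IsOpenImmersion.of_comp b (V x).ι
  have hinv : PicF.IsInvertible (M.restrict (V x).ι) :=
    H23.PicMul.isInvertible_of_iso ((hfree x).some ≪≫ coproductUniqueIso fun _ : Fin 1 =>
      Coh.structureModule ((V x : X.Opens) : Scheme.{u})).symm InvX.isInvertible_structureModule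
  exact H23.PicMul.isInvertible_of_iso (ParaFX.restrictTwice M b (V x).ι ≪≫
    (Scheme.Modules.restrictFunctorCongr hb).app M ≪≫ (ParaFX.restrictTwice M T.ι (⨆ x, V x).ι).symm)
    (ParaFX.isInvertible_restrict b hinv)

end Groth.Agent.FormalAlg
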