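import Groth.Agent.FormalAlg.Sections
import Groth.Agent.KZ.QuasiProj

/-!
# Systems are quotients of completions of sums of negative powers of the ample module
-/

set_option linter.style.haveILetI false
set_option linter.unusedSectionVars false
set_option backward.isDefEq.respectTransparency false
set_option backward.isDefEq.respectTransparency.types false

universe u

open CategoryTheory CategoryTheory.Limits AlgebraicGeometry TopologicalSpace Opposite
open Groth.Agent.H23.PicMul

attribute [local instance] HasDerivedCategory.standard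
attribute [local instance] Groth.Agent.QCoh.hasFiniteBiproducts

noncomputable section

namespace Groth.Agent.FormalAlg

open Groth.Agent

variable {X : Scheme.{u}} {J : X.IdealSheafData}

/-- A compatible family surjective on the bottom level is surjective on all levels. -/
theorem LevelSys.surjective_of_zero (S : LevelSys J) (hJ : PicF.IsInvertible (ClSub.idealMod J)) {D : X.Modules}
    (φ : ∀ k, D ⟶ S.G k) (hφ : ∀ k, φ (k + 1) ≫ S.ρ k = φ k)
    (h0 : ∀ x : X, Function.Surjective ((DerSch.stalkFunctor X x).map (φ 0))) (k : ℕ) (x : X) :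
    Function.Surjective ((DerSch.stalkFunctor X x).map (φ k)) := by
  obtain ⟨W, hx⟩ := exists_affine x
  obtain ⟨t, g, ht, -, -, -⟩ := exists_gen J hJ W hx
  have hpr : ∀ n, φ n ≫ S.pr n = φ 0 := fun n => by
    induction n with
    | zero => exact Category.comp_id _
    | succ n ih => rw [LevelSys.pr, ← Category.assoc, hφ, ih]
  have step : ∀ v : (DerSch.stalkFunctor X x).obj (S.G k), ∃ d w,
      v = (DerSch.stalkFunctor X x).map (φ k) d + t • w := fun v => by
    obtain ⟨d, hd⟩ := h0 x ((DerSch.stalkFunctor X x).map (S.pr k) v)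
    obtain ⟨w, hw⟩ := (S.pr_ker hx ht k (v - (DerSch.stalkFunctor X x).map (φ k) d)).1 (by
      rw [map_sub, ← ConcreteCategory.comp_apply, ← Functor.map_comp, hpr]
      exact sub_eq_zero.2 hd.symm)
    exact ⟨d, w, by rw [hw, add_sub_cancel]⟩
  have all : ∀ j (v : (DerSch.stalkFunctor X x).obj (S.G k)), ∃ d w,
      v = (DerSch.stalkFunctor X x).map (φ k) d + t ^ j • w := fun j => by
    induction j with
    | zero => exact fun v => ⟨0, v, by rw [map_zero, pow_zero, one_smul, zero_add]⟩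
    | succ j ih =>
      intro v
      obtain ⟨d, w, rfl⟩ := ih v
      obtain ⟨d', w', rfl⟩ := step w
      exact ⟨d + t ^ j • d', w', by rw [smul_add, smul_smul, ← pow_succ, map_add, map_smul, add_assoc]⟩
  intro v
  obtain ⟨d, w, rfl⟩ := all (k + 1) v
  exact ⟨d, by rw [smul_of_killed ht (k + 1) (S.killed k W x hx), add_zero]⟩

variable (A : Type u) [CommRing A] [IsNoetherianRing A] [X.Over (Spec (CommRingCat.of A))]
  [IsProper (X ↘ Spec (CommRingCat.of A))]

include A in
/-- A system is a quotient of the completion of a sum of powers of the ideal. -/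
theorem LevelSys.exists_compatible_epi (S : LevelSys J) (hJ : PicF.IsInvertible (ClSub.idealMod J)) {L : X.Modules}
    (hamp : CohB1.IsAmple L) (hLI : PicF.cl L * PicF.cl (ClSub.idealMod J) = 1)
    (hj : ∃ j₀, ∀ j, j₀ ≤ j → Van 1 (PicF.cl (S.G 0) * PicF.cl (ClSub.idealMod J) ^ j)) :
    ∃ (r m : ℕ) (φ : ∀ n, (⨁ fun _ : ULift.{u} (Fin r) => CohB1.tensorPow (ClSub.idealMod J) m) ⟶ S.G n),
      (∀ n, φ (n + 1) ≫ S.ρ n = φ n) ∧
      ∀ n (x : X), Function.Surjective ((DerSch.stalkFunctor X x).map (φ n)) := by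
  classical
  haveI : CompactSpace X := AmpleVan.compactSpace_of_proper (A := A)
  haveI := AmpleVan.isSeparated_of_proper (X := X) (A := A)
  haveI : IsLocallyNoetherian X := LocallyOfFiniteType.isLocallyNoetherian (X ↘ Spec (CommRingCat.of A))
  obtain ⟨m₀, hm₀⟩ := S.exists_twist_lift A hJ hamp hLI hj
  have hft : CohB1.IsFT (S.G 0) := QCoh.isFT_of_isFP (QCoh.isCoh_iff_isFP.1 (S.coh 0))
  obtain ⟨n₀, hn₀⟩ := AmpleX.eventually_generated hamp (S.coh 0).1 hft
  let m := max m₀ n₀
  let P := CohB1.tensorPow L m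
  let Q := CohB1.tensorPow (ClSub.idealMod J) m
  have hP := InvX.isInvertible_tensorPow hamp.1 m
  have hQ := InvX.isInvertible_tensorPow hJ m
  haveI := AmpleVan.isEquivalence_tw hP
  haveI := AmpleVan.isEquivalence_tw hQ
  obtain ⟨G, iso, κ, s, hs⟩ := hn₀ m (le_max_right _ _)
  have hG : Coh.IsCoh G := SheafHomX.isCoh_of_iso iso.symm
    (AmpleVan.isCoh_tensor (S.coh 0) (AmpleVan.isCoh_invertible hP))
  obtain ⟨r, j, hj⟩ := AmpleVan.exists_fin_generatedBy hG s hs
  choose g hg hgd using fun i : ULift.{u} (Fin r) => hm₀ m (le_max_left _ _) (iso.hom.app ⊤ (s (j i.down)))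
  let O : ULift.{u} (Fin r) → X.Modules := fun _ => Coh.structureModule X
  let ψ : ∀ n, (⨁ O) ⟶ (AmpleVan.tw P).obj (S.G n) := fun n => biproduct.desc fun i => InvX.ofSect (g i n)
  have hψ : ∀ n, ψ (n + 1) ≫ (AmpleVan.tw P).map (S.ρ n) = ψ n := fun n => biproduct.hom_ext' _ _ fun i => by
    rw [biproduct.ι_desc_assoc, biproduct.ι_desc]
    refine AmpleVan.one_injective ?_
    rw [AmpleVan.one_comp, InvX.one_ofSect, InvX.one_ofSect]
    exact hg i n
  have hψd : Epi (ψ 0) := by
    haveI : Epi (ψ 0 ≫ iso.inv) := InvX.epi_of_generated hj _ (fun i => biproduct.ι O ⟨i⟩) fun i => by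
      rw [biproduct.ι_desc_assoc, AmpleVan.one_comp, InvX.one_ofSect, hgd]
      exact congr(($(iso.hom_inv_id)).app ⊤ (s (j i)))
    have e : ψ 0 = (ψ 0 ≫ iso.inv) ≫ iso.hom := by rw [Category.assoc, Iso.inv_hom_id, Category.comp_id]
    rw [e]; infer_instance
  obtain ⟨e⟩ : Nonempty ((AmpleVan.tw Q).obj P ≅ Coh.structureModule X) := cl_eq_iff.1 (by
    rw [cl_tw, cl_tensorPow, cl_tensorPow, ← mul_pow, hLI, one_pow, H23.PicMul.one_def])
  obtain ⟨u₀⟩ : Nonempty (Q ≅ (AmpleVan.tw Q).obj (Coh.structureModule X)) := cl_eq_iff.1 (by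
    rw [cl_tw, ← H23.PicMul.one_def, one_mul])
  let η : AmpleVan.tw P ⋙ AmpleVan.tw Q ≅ 𝟭 X.Modules :=
    AmpleVan.twComp P Q ≪≫ (DCoh.tensorBi (X := X)).flip.mapIso e ≪≫ AmpleVan.twUnit
  haveI : (AmpleVan.tw Q).Additive := Functor.additive_of_preserves_binary_products _
  haveI : PreservesBiproduct O (AmpleVan.tw Q) := preservesBiproduct_of_preservesProduct (AmpleVan.tw Q)
  let ω : (⨁ fun _ : ULift.{u} (Fin r) => Q) ≅ (AmpleVan.tw Q).obj (⨁ O) :=
    biproduct.mapIso (fun _ => u₀) ≪≫ ((AmpleVan.tw Q).mapBiproduct O).symm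
  let φ : ∀ n, (⨁ fun _ : ULift.{u} (Fin r) => Q) ⟶ S.G n := fun n =>
    ω.hom ≫ (AmpleVan.tw Q).map (ψ n) ≫ η.hom.app (S.G n)
  have hφ : ∀ n, φ (n + 1) ≫ S.ρ n = φ n := fun n => by
    have h := AmpleVan.twist_compat η (S.ρ n) (ψ (n + 1))
    rw [hψ n] at h
    show (ω.hom ≫ _) ≫ _ = _
    rw [Category.assoc, h]
  refine ⟨r, m, φ, hφ, S.surjective_of_zero hJ φ hφ fun x => ?_⟩
  haveI := hψd
  haveI : Epi (φ 0) := epi_comp _ _
  exact (ModuleCat.epi_iff_surjective _).1 inferInstance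

variable (J) in
/-- Vanishing for the quotient carries over to the bottom level of a sum of powers. -/
theorem van_levels [IsLocallyNoetherian X] (hJ : PicF.IsInvertible (ClSub.idealMod J)) (r m : ℕ)
    (hD : FlatMod.IsFinLocFree (⨁ fun _ : ULift.{u} (Fin r) => CohB1.tensorPow (ClSub.idealMod J) m)) (i : ℕ)
    (h : ∃ j₀, ∀ j, j₀ ≤ j → Van i (PicF.cl (ClSub.quotMod J) * PicF.cl (ClSub.idealMod J) ^ j)) :
    ∃ j₀, ∀ j, j₀ ≤ j → Van i (PicF.cl ((levels J hJ _ hD).G 0) * PicF.cl (ClSub.idealMod J) ^ j) := by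
  obtain ⟨j₀, hj₀⟩ := h
  refine ⟨j₀, fun j hj => ?_⟩
  let P := fun _ : ULift.{u} (Fin r) => CohB1.tensorPow (ClSub.idealMod J) m
  let T := AmpleVan.tw (CohB1.tensorPow (ClSub.idealMod J) j)
  let B := (DCoh.tensorBi (X := X)).obj (ClSub.quotMod (J ^ (0 + 1)))
  haveI := AmpleVan.isEquivalence_tw (InvX.isInvertible_tensorPow hJ j)
  haveI : T.Additive := Functor.additive_of_preserves_binary_products _
  haveI : B.Additive := inferInstance
  refine van_of i (T.obj (B.obj (⨁ P))) ?_ (by rw [cl_tw, cl_tensorPow]; rfl)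
  refine PnCoh.Finite.subsingleton_HH_of_decomposition (fun b => T.obj (B.obj (P b)))
    (fun b => T.map (B.map (biproduct.π P b))) (fun b => T.map (B.map (biproduct.ι P b))) ?_ i fun b => ?_
  · simp only [← Functor.map_comp, ← Functor.map_sum]
    rw [QCoh.biproduct_total', CategoryTheory.Functor.map_id, CategoryTheory.Functor.map_id]
  · refine hj₀ (m + j) (by omega) _ ?_
    rw [cl_tw, show PicF.cl (B.obj (P b)) = PicF.cl (ClSub.quotMod (J ^ (0 + 1))) * PicF.cl (P b) from cl_tensor _ _,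
      cl_tensorPow, cl_tensorPow, mul_assoc, ← pow_add, zero_add, pow_one]

/-- The morphism of systems given by a compatible family. -/
theorem exists_levelHom [IsLocallyNoetherian X] (S : LevelSys J) (hJ : PicF.IsInvertible (ClSub.idealMod J))
    (D : X.Modules) (hD : FlatMod.IsFinLocFree D) (φ : ∀ n, D ⟶ S.G n) (hφ : ∀ n, φ (n + 1) ≫ S.ρ n = φ n)
    (hs : ∀ n (x : X), Function.Surjective ((DerSch.stalkFunctor X x).map (φ n))) :
    ∃ (θ : LevelHom (levels J hJ D hD) S) (u : (AmpleVan.tw D).obj (Coh.structureModule X) ≅ D),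
      ∀ n, levelsπ J hJ D hD n ≫ θ.f n = u.hom ≫ φ n := by
  let u := SheafHomX.tenUnitIso D
  let p := levelsπ J hJ D hD
  haveI : ∀ n, Epi (p n) := fun n => epi_levelsπ J hJ D hD n
  have h0 : ∀ n, kernel.ι (p n) ≫ u.hom ≫ φ n = 0 := fun n => by
    refine DepthTwist.hom_ext_stalk _ _ fun x => ?_
    obtain ⟨W, hx⟩ := exists_affine x
    rw [Functor.map_comp, Functor.map_zero]
    ext v
    let Φ := DerSch.stalkFunctor X x
    have hv : Φ.map (p n) (Φ.map (kernel.ι (p n)) v) = 0 := by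
      rw [← ConcreteCategory.comp_apply, ← Functor.map_comp, kernel.condition, Functor.map_zero]
      rfl
    have hm := (levelsπ_ker J hJ D hD n W x hx _).1 hv
    show Φ.map (u.hom ≫ φ n) (Φ.map (kernel.ι (p n)) v) = 0
    refine Submodule.smul_induction_on hm (fun r hr w _ => ?_) (fun a b ha hb => ?_)
    · rw [map_smul]; exact S.killed n W x hx r hr _
    · rw [map_add, ha, hb, add_zero]
  let f : ∀ n, (levels J hJ D hD).G n ⟶ S.G n := fun n =>
    Abelian.epiDesc (p n) (u.hom ≫ φ n) (h0 n)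
  have hf : ∀ n, p n ≫ f n = u.hom ≫ φ n := fun n => Abelian.comp_epiDesc _ _ _
  refine ⟨{ f := f, comm := fun n => ?_, surj := fun n x => ?_ }, u, hf⟩
  · rw [← cancel_epi (p (n + 1)), ← Category.assoc, levelsπ_comm, hf, ← Category.assoc, hf, Category.assoc, hφ]
  · intro v
    obtain ⟨w, rfl⟩ := hs n x v
    refine ⟨(DerSch.stalkFunctor X x).map (p n) ((DerSch.stalkFunctor X x).map u.inv w), ?_⟩
    rw [← ConcreteCategory.comp_apply, ← ConcreteCategory.comp_apply, ← Functor.map_comp, ← Functor.map_comp,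
      hf, Iso.inv_hom_id_assoc]

end Groth.Agent.FormalAlg
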