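import Groth.Agent.FormalAlg.Sys
import Groth.Agent.AmpleVan.ThickPush
import Groth.Agent.CartierFP.Stalks
import Groth.Agent.ExtShX.StalkClosed
import Groth.Agent.H23.ClosedPushLen

/-!
# Systems of locally free modules on the thickenings as systems on the ambient scheme
-/

set_option linter.style.haveILetI false
set_option linter.unusedSectionVars false
set_option backward.isDefEq.respectTransparency false
set_option backward.isDefEq.respectTransparency.types false

universe u

open CategoryTheory CategoryTheory.Limits AlgebraicGeometry TopologicalSpace Opposite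

noncomputable section

namespace Groth.Agent.FormalAlg

open Groth.Agent

variable {X : Scheme.{u}}

theorem stI_le_of_le (D : X.IdealSheafData) {W O : X.affineOpens} (hOW : O.1 ≤ W.1) {x : X} (hx : x ∈ O.1) :
    DepthTwist.stI D O hx = DepthTwist.stI D W (hOW hx) := by
  unfold DepthTwist.stI
  rw [← D.map_ideal (U := O) (V := W) hOW, Ideal.map_map]
  congr 1
  exact congrArg CommRingCat.Hom.hom (X.presheaf.germ_res (homOfLE hOW) x hx)

/-- The unit of a closed immersion on stalks. -/
theorem stalk_unit_closed {Z : Scheme.{u}} (i : Z ⟶ X) [IsClosedImmersion i] {G : X.Modules}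
    (hG : Coh.IsQCoh G) (W : X.affineOpens) {x : X} (hx : x ∈ W.1) :
    Function.Surjective ((DerSch.stalkFunctor X x).map
        ((Scheme.Modules.pullbackPushforwardAdjunction i).unit.app G)) ∧
      ∀ v, (DerSch.stalkFunctor X x).map ((Scheme.Modules.pullbackPushforwardAdjunction i).unit.app G) v = 0 →
        v ∈ DepthTwist.stI i.ker W hx • (⊤ : Submodule (X.presheaf.stalk x) ((DerSch.stalkFunctor X x).obj G)) := by
  let N := (Scheme.Modules.pushforward i).obj ((Scheme.Modules.pullback i).obj G)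
  let η : G ⟶ N := (Scheme.Modules.pullbackPushforwardAdjunction i).unit.app G
  refine ⟨fun q => ?_, fun v hv => ?_⟩
  · obtain ⟨U, hxU, s, rfl⟩ := TopCat.Presheaf.exists_germ_eq N.presheaf q
    obtain ⟨_, ⟨O, hO, rfl⟩, hxO, hOle⟩ := X.isBasis_affineOpens.exists_subset_of_mem_open
      (show x ∈ U from hxU) U.isOpen
    rw [← TopCat.Presheaf.germ_res_apply N.presheaf (homOfLE (show O ≤ U from hOle)) x hxO s]
    obtain ⟨a, ha⟩ := (QCoh.unit_app_closed i hG hO).1 (N.presheaf.map (homOfLE (show O ≤ U from hOle)).op s)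
    exact ⟨G.presheaf.germ O x hxO a, (DerSch.stalkFunctor_map_germ x η O hxO a).trans (congrArg _ ha)⟩
  · obtain ⟨U, hxU, a, rfl⟩ := TopCat.Presheaf.exists_germ_eq G.presheaf v
    have hv' : N.presheaf.germ U x hxU (η.app U a) = 0 :=
      (DerSch.stalkFunctor_map_germ x η U hxU a).symm.trans hv
    obtain ⟨U', hxU', i', _, hi⟩ := TopCat.Presheaf.germ_eq (C := AddCommGrpCat.{u})
      N.presheaf x hxU hxU _ 0 (hv'.trans (map_zero _).symm)
    obtain ⟨_, ⟨O, hO, rfl⟩, hxO, hOle⟩ := X.isBasis_affineOpens.exists_subset_of_mem_open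
      (show x ∈ U' ⊓ W.1 from ⟨hxU', hx⟩) (U' ⊓ W.1).isOpen
    have hOU : O ≤ U := le_trans (le_trans hOle inf_le_left) (leOfHom i')
    have hOW : O ≤ W.1 := le_trans hOle inf_le_right
    rw [← TopCat.Presheaf.germ_res_apply G.presheaf (homOfLE hOU) x hxO a]
    have h0 : η.app O (G.presheaf.map (homOfLE hOU).op a) = 0 := by
      rw [QCoh.map_app_comm η (homOfLE hOU) a,
        show (homOfLE hOU).op = i'.op ≫ (homOfLE (le_trans hOle inf_le_left : O ≤ U')).op from rfl,
        Functor.map_comp, ConcreteCategory.comp_apply, hi, map_zero, map_zero]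
    have hmem := ((QCoh.unit_app_closed i hG hO).2 _).1 h0
    refine Submodule.smul_induction_on hmem (fun r hr m _ => ?_) (fun p q hp hq => ?_)
    · rw [QCoh.germ_smul' G hxO r m]
      refine Submodule.smul_mem_smul ?_ Submodule.mem_top
      exact (stI_le_of_le i.ker (O := ⟨O, hO⟩) (W := W) hOW hxO).le (Ideal.mem_map_of_mem _ hr)
    · exact (map_add (G.presheaf.germ O x hxO).hom p q).symm ▸ add_mem hp hq

/-- A direct image from a closed subscheme is killed by its ideal. -/
theorem push_killed (D : X.IdealSheafData) (F : D.subscheme.Modules) (W : X.affineOpens) {x : X}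
    (hx : x ∈ W.1) (r : X.presheaf.stalk x) (hr : r ∈ DepthTwist.stI D W hx)
    (v : (DerSch.stalkFunctor X x).obj ((Scheme.Modules.pushforward D.subschemeι).obj F)) : r • v = 0 := by
  by_cases hx' : x ∈ Set.range D.subschemeι
  · obtain ⟨z, rfl⟩ := hx'
    refine (ExtShX.stalkPushEquiv D.subschemeι F z).injective ?_
    have h : (D.subschemeι.stalkMap z).hom r = 0 := by
      rw [← RingHom.mem_ker, CartierFP.ker_stalkMap_subschemeι D W z hx]
      exact hr
    refine (ExtShX.stalkPushEquiv_smul D.subschemeι F z r v).trans ?_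
    rw [h, zero_smul, map_zero]
  · haveI := H23.ClosedPushLen.subsingleton_stalk (f := D.subschemeι) F hx'
    exact Subsingleton.elim (α := (((Scheme.Modules.pushforward D.subschemeι).obj F).presheaf.stalk x : Type u)) _ _

/-- Divisibility in the stalks of the direct image of a locally free module. -/
theorem push_regular (D : X.IdealSheafData) {F : D.subscheme.Modules} (hF : FlatMod.IsFinLocFree F)
    (W : X.affineOpens) {x : X} (hx : x ∈ W.1) (t c : X.presheaf.stalk x)
    (h : ∀ a, t * a ∈ DepthTwist.stI D W hx → c ∣ a)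
    (v : (DerSch.stalkFunctor X x).obj ((Scheme.Modules.pushforward D.subschemeι).obj F)) (hv : t • v = 0) :
    ∃ w, c • w = v := by
  classical
  by_cases hx' : x ∈ Set.range D.subschemeι
  · obtain ⟨z, rfl⟩ := hx'
    let ε := ExtShX.stalkPushEquiv D.subschemeι F z
    let σ := (D.subschemeι.stalkMap z).hom
    haveI := QCoh.free_stalk_of_isFinLocFree hF z
    let b := Module.Free.chooseBasis (D.subscheme.presheaf.stalk z) (F.presheaf.stalk z)
    have h1 : σ t • ε v = 0 := (ExtShX.stalkPushEquiv_smul D.subschemeι F z t v).symm.trans (by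
      exact (congrArg ε hv).trans (map_zero ε))
    have h2 : ∀ i, ∃ a, σ c * σ a = b.repr (ε v) i := fun i => by
      obtain ⟨a, ha⟩ := D.subschemeι.stalkMap_surjective z (b.repr (ε v) i)
      have h3 : σ (t * a) = 0 := by
        rw [map_mul, show σ a = b.repr (ε v) i from ha]
        have := congrArg (fun y => b.repr y i) h1
        simpa only [map_smul, map_zero, Finsupp.smul_apply, smul_eq_mul, Finsupp.zero_apply] using this
      rw [← RingHom.mem_ker, show RingHom.ker σ = DepthTwist.stI D W hx from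
        CartierFP.ker_stalkMap_subschemeι D W z hx] at h3
      obtain ⟨a', rfl⟩ := h a h3
      exact ⟨a', by rw [← map_mul]; exact ha⟩
    choose a ha using h2
    let w' : F.presheaf.stalk z := ∑ i ∈ (b.repr (ε v)).support, σ (a i) • b i
    refine ⟨ε.symm w', ε.injective ?_⟩
    refine (ExtShX.stalkPushEquiv_smul D.subschemeι F z c _).trans ?_
    rw [ε.apply_symm_apply, Finset.smul_sum]
    conv_rhs => rw [← b.linearCombination_repr (ε v), Finsupp.linearCombination_apply, Finsupp.sum]
    refine Finset.sum_congr rfl fun i _ => ?_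
    rw [smul_smul, ha i]
  · haveI := H23.ClosedPushLen.subsingleton_stalk (f := D.subschemeι) F hx'
    exact ⟨0, Subsingleton.elim (α := (((Scheme.Modules.pushforward D.subschemeι).obj F).presheaf.stalk x : Type u)) _ _⟩

theorem comm_aux {C D E : Type*} [Category C] [Category D] [Category E] (P : C ⥤ D) (I : D ⥤ E) (Q : C ⥤ E)
    (c : P ⋙ I ≅ Q) {M N : C} (f : M ⟶ N) {F1 : D} (k : P.obj N ⟶ F1) {F0 : E} (e : I.obj F1 ⟶ F0) :
    c.hom.app M ≫ Q.map f ≫ c.inv.app N ≫ I.map k ≫ e = I.map (P.map f ≫ k) ≫ e := by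
  rw [← c.hom.naturality_assoc]
  simp

theorem symm_aux {C D : Type*} [Category C] [Category D] {P : C ⥤ D} {Q : D ⥤ C} (adj : P ⊣ Q) {M N : C} {F0 : D}
    (φ : P.obj N ⟶ F0) (a : M ⟶ N) (b : M ⟶ Q.obj F0) (h : b = a ≫ adj.unit.app N ≫ Q.map φ) :
    (adj.homEquiv _ _).symm b = P.map a ≫ φ := by
  rw [h, Adjunction.homEquiv_naturality_left_symm, ← Adjunction.homEquiv_unit, Equiv.symm_apply_apply]

variable [IsLocallyNoetherian X] {J : X.IdealSheafData}

/-- The comparison between two consecutive levels. -/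
def φIso (𝔐 : FSch.ModSys (FSch.completionAlong X J)) (hq : ∀ n, Coh.IsQCoh (𝔐.F n)) (n : ℕ) :
    (Scheme.Modules.pullback (FSch.completionToX X J n)).obj
      ((Scheme.Modules.pushforward (FSch.completionToX X J (n + 1))).obj (𝔐.F (n + 1))) ≅ 𝔐.F n :=
  haveI : IsClosedImmersion (FSch.completionToX X J (n + 1)) :=
    inferInstanceAs (IsClosedImmersion (J ^ (n + 1 + 1)).subschemeι)
  haveI := AmpleVan.isIso_counit (FSch.completionToX X J (n + 1)) (hq (n + 1))
  ((FSch.complTransIso J n).app _).symm ≪≫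
    (Scheme.Modules.pullback ((FSch.completionAlong X J).ι n)).mapIso
      (asIso ((Scheme.Modules.pullbackPushforwardAdjunction (FSch.completionToX X J (n + 1))).counit.app (𝔐.F (n + 1)))) ≪≫
    𝔐.e n

/-- The transition maps on the ambient scheme. -/
def sysρ (𝔐 : FSch.ModSys (FSch.completionAlong X J)) (hq : ∀ n, Coh.IsQCoh (𝔐.F n)) (n : ℕ) :
    (Scheme.Modules.pushforward (FSch.completionToX X J (n + 1))).obj (𝔐.F (n + 1)) ⟶
      (Scheme.Modules.pushforward (FSch.completionToX X J n)).obj (𝔐.F n) :=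
  (Scheme.Modules.pullbackPushforwardAdjunction (FSch.completionToX X J n)).unit.app _ ≫
    (Scheme.Modules.pushforward (FSch.completionToX X J n)).map (φIso 𝔐 hq n).hom

/-- A locally free system as a system on the ambient scheme. -/
def ofModSys (hJ : PicF.IsInvertible (ClSub.idealMod J)) (𝔐 : FSch.ModSys (FSch.completionAlong X J))
    (h : ∀ n, FlatMod.IsFinLocFree (𝔐.F n)) : LevelSys J where
  G n := (Scheme.Modules.pushforward (J ^ (n + 1)).subschemeι).obj (𝔐.F n)
  ρ n := sysρ 𝔐 (fun n => QCoh.isQCoh_of_isFinLocFree (h n)) n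
  coh n := by
    haveI : IsLocallyNoetherian (J ^ (n + 1)).subscheme :=
      LocallyOfFiniteType.isLocallyNoetherian (J ^ (n + 1)).subschemeι
    exact QCoh.isCoh_pushforward_finite _ (CurveDeg.isCoh_of_isFinLocFree (X := (J ^ (n + 1)).subscheme) (h n))
  surj n x := by
    obtain ⟨W, hx⟩ := exists_affine x
    rw [sysρ, Functor.map_comp]
    exact (ConcreteCategory.bijective_of_isIso ((DerSch.stalkFunctor X x).map
      ((Scheme.Modules.pushforward (FSch.completionToX X J n)).map
        (φIso 𝔐 (fun n => QCoh.isQCoh_of_isFinLocFree (h n)) n).hom))).2.comp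
      (stalk_unit_closed (J ^ (n + 1)).subschemeι
        (QCoh.isQCoh_pushforward _ (QCoh.isQCoh_of_isFinLocFree (h (n + 1)))) W hx).1
  ker n W x hx v hv := by
    rw [sysρ, Functor.map_comp] at hv
    have hv' := (ConcreteCategory.bijective_of_isIso ((DerSch.stalkFunctor X x).map
      ((Scheme.Modules.pushforward (FSch.completionToX X J n)).map
        (φIso 𝔐 (fun n => QCoh.isQCoh_of_isFinLocFree (h n)) n).hom))).1 (hv.trans (map_zero _).symm)
    have h2 := (stalk_unit_closed (J ^ (n + 1)).subschemeι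
      (QCoh.isQCoh_pushforward _ (QCoh.isQCoh_of_isFinLocFree (h (n + 1)))) W hx).2 v hv'
    rw [Scheme.IdealSheafData.ker_subschemeι, LefLib.stI_pow] at h2
    exact h2
  killed n W x hx r hr v := push_killed (J ^ (n + 1)) (𝔐.F n) W hx r (by rwa [LefLib.stI_pow]) v
  regular n W x hx v hv := by
    obtain ⟨t, g, ht, hnz, -, -⟩ := exists_gen J hJ W hx
    refine (mem_pow_smul_top ht _ _).2 (push_regular (J ^ (n + 1 + 1)) (h (n + 1)) W hx t (t ^ (n + 1))
      (fun a ha => ?_) v (hv t (ht ▸ Ideal.mem_span_singleton_self t)))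
    rw [LefLib.stI_pow, ht, Ideal.span_singleton_pow, Ideal.mem_span_singleton'] at ha
    obtain ⟨b, hb⟩ := ha
    exact ⟨b, sub_eq_zero.1 (hnz _ (by rw [sub_mul, mul_comm a t, ← hb, pow_succ]; ring))⟩

theorem sysρ_eq (𝔐 : FSch.ModSys (FSch.completionAlong X J)) (hq : ∀ n, Coh.IsQCoh (𝔐.F n)) (n : ℕ) {M : X.Modules}
    (a : M ⟶ (Scheme.Modules.pushforward (FSch.completionToX X J (n + 1))).obj (𝔐.F (n + 1))) :
    a ≫ sysρ 𝔐 hq n = a ≫ (Scheme.Modules.pullbackPushforwardAdjunction (FSch.completionToX X J n)).unit.app _ ≫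
      (Scheme.Modules.pushforward (FSch.completionToX X J n)).map (φIso 𝔐 hq n).hom := rfl

theorem symm_sysρ (𝔐 : FSch.ModSys (FSch.completionAlong X J)) (hq : ∀ n, Coh.IsQCoh (𝔐.F n)) (n : ℕ) {M : X.Modules}
    (a : M ⟶ (Scheme.Modules.pushforward (FSch.completionToX X J (n + 1))).obj (𝔐.F (n + 1))) :
    ((Scheme.Modules.pullbackPushforwardAdjunction (FSch.completionToX X J n)).homEquiv _ _).symm (a ≫ sysρ 𝔐 hq n) =
      (Scheme.Modules.pullback (FSch.completionToX X J n)).map a ≫ (φIso 𝔐 hq n).hom := by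
  rw [sysρ_eq]
  exact symm_aux _ _ _ _ rfl

/-- Compatible quotient maps onto a locally free system identify it with the completion. -/
theorem nonempty_iso_of_quotient (hJ : PicF.IsInvertible (ClSub.idealMod J))
    (𝔐 : FSch.ModSys (FSch.completionAlong X J)) (h : ∀ n, FlatMod.IsFinLocFree (𝔐.F n))
    {M : X.Modules} (hM : Coh.IsQCoh M)
    (q : ∀ n, M ⟶ (Scheme.Modules.pushforward (FSch.completionToX X J n)).obj (𝔐.F n))
    (hq : ∀ n, q (n + 1) ≫ sysρ 𝔐 (fun n => QCoh.isQCoh_of_isFinLocFree (h n)) n = q n)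
    (hs : ∀ n (x : X), Function.Surjective ((DerSch.stalkFunctor X x).map (q n)))
    (hk : ∀ n (W : X.affineOpens) (x : X) (hx : x ∈ W.1) (v : (DerSch.stalkFunctor X x).obj M),
      (DerSch.stalkFunctor X x).map (q n) v = 0 → v ∈ DepthTwist.stI J W hx ^ (n + 1) •
        (⊤ : Submodule (X.presheaf.stalk x) ((DerSch.stalkFunctor X x).obj M))) :
    Nonempty (FSch.complMod J M ≅ 𝔐) := by
  have hqc := fun n => QCoh.isQCoh_of_isFinLocFree (h n)
  let i := FSch.completionToX X J
  let adj := fun n => Scheme.Modules.pullbackPushforwardAdjunction (i n)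
  let α : ∀ n, (Scheme.Modules.pullback (i n)).obj M ⟶ 𝔐.F n := fun n => ((adj n).homEquiv _ _).symm (q n)
  have hcl : ∀ n, IsClosedImmersion (i n) := fun n =>
    inferInstanceAs (IsClosedImmersion (J ^ (n + 1)).subschemeι)
  have hα : ∀ n, IsIso (α n) := fun n => by
    haveI := hcl n
    let η : M ⟶ _ := (adj n).unit.app M
    let b : M ⟶ (Scheme.Modules.pushforward (i n)).obj (𝔐.F n) := q n
    haveI : Epi η := HomShX.epi_of_stalk _ fun x => by
      obtain ⟨W, hx⟩ := exists_affine x
      exact (stalk_unit_closed (i n) hM W hx).1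
    haveI : Epi b := HomShX.epi_of_stalk _ fun x => hs n x
    obtain ⟨κ, hκ⟩ := LefLib.exists_iso_under η b fun x v => by
      obtain ⟨W, hx⟩ := exists_affine x
      have kill : ∀ (E : (J ^ (n + 1)).subscheme.Modules) (f : M ⟶ (Scheme.Modules.pushforward (J ^ (n + 1)).subschemeι).obj E)
          (w : (DerSch.stalkFunctor X x).obj M), w ∈ DepthTwist.stI J W hx ^ (n + 1) •
            (⊤ : Submodule (X.presheaf.stalk x) ((DerSch.stalkFunctor X x).obj M)) →
          (DerSch.stalkFunctor X x).map f w = 0 := fun E f w hw => by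
        refine Submodule.smul_induction_on hw (fun r hr w _ => ?_) (fun a b ha hb => ?_)
        · rw [map_smul]; exact push_killed (J ^ (n + 1)) E W hx r (by rwa [LefLib.stI_pow]) _
        · rw [map_add, ha, hb, add_zero]
      refine ⟨fun hv => kill _ b v ?_, fun hv => kill _ η v (hk n W x hx v hv)⟩
      have h2 := (stalk_unit_closed (i n) hM W hx).2 v hv
      rw [show (i n).ker = J ^ (n + 1) from Scheme.IdealSheafData.ker_subschemeι _, LefLib.stI_pow] at h2
      exact h2
    have e : η ≫ (Scheme.Modules.pushforward (i n)).map (α n) = b :=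
      ((adj n).homEquiv_unit _ _ _).symm.trans (((adj n).homEquiv _ _).apply_symm_apply _)
    haveI : IsIso ((Scheme.Modules.pushforward (i n)).map (α n)) := by
      rw [(cancel_epi η).1 (e.trans hκ.symm)]; infer_instance
    exact AmpleVan.isIso_of_push (i n) (α n)
  have hαn : ∀ n, (FSch.complTransIso J n).hom.app M ≫ α n =
      (Scheme.Modules.pullback ((FSch.completionAlong X J).ι n)).map (α (n + 1)) ≫ (𝔐.e n).hom := fun n => by
    haveI := hcl (n + 1)
    have h1 : α n = (Scheme.Modules.pullback (i n)).map (q (n + 1)) ≫ (φIso 𝔐 hqc n).hom :=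
      (congrArg ((Scheme.Modules.pullbackPushforwardAdjunction (FSch.completionToX X J n)).homEquiv _ _).symm
        (hq n).symm).trans (symm_sysρ 𝔐 hqc n (q (n + 1)))
    have h2 : α (n + 1) = (Scheme.Modules.pullback (i (n + 1))).map (q (n + 1)) ≫ (adj (n + 1)).counit.app _ :=
      (adj (n + 1)).homEquiv_counit _ _ _
    rw [h1, h2, φIso, Iso.trans_hom, Iso.trans_hom, Iso.symm_hom, Iso.app_inv, Functor.mapIso_hom, asIso_hom]
    exact comm_aux (Scheme.Modules.pullback (i (n + 1))) (Scheme.Modules.pullback ((FSch.completionAlong X J).ι n))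
      (Scheme.Modules.pullback (i n)) (FSch.complTransIso J n) (q (n + 1))
      ((adj (n + 1)).counit.app (𝔐.F (n + 1))) (𝔐.e n).hom
  let f : FSch.complMod J M ⟶ 𝔐 := ⟨α, fun n => (hαn n).symm⟩
  exact ⟨{
    hom := f
    inv := ⟨fun n => haveI := hα n; inv (α n), fun n => by
      haveI := hα n
      haveI := hα (n + 1)
      rw [Functor.map_inv, IsIso.inv_comp_eq, ← Category.assoc, IsIso.eq_comp_inv]
      exact hαn n⟩
    hom_inv_id := FSch.ModSys.Hom.ext (funext fun n => by haveI := hα n; exact IsIso.hom_inv_id (α n))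
    inv_hom_id := FSch.ModSys.Hom.ext (funext fun n => by haveI := hα n; exact IsIso.inv_hom_id (α n)) }⟩

end Groth.Agent.FormalAlg
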