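import Groth.Agent.FormalAlg.Levels
import Groth.Agent.QCoh.LocFree
import Groth.Agent.CohPullLib.LocRestrict
import Mathlib.RingTheory.Filtration
import Mathlib.RingTheory.Nakayama

/-!
# An algebraization of a locally free system is locally free near the closed subscheme
-/

set_option linter.style.haveILetI false
set_option linter.unusedSectionVars false
set_option backward.isDefEq.respectTransparency false
set_option backward.isDefEq.respectTransparency.types false

universe u

open CategoryTheory CategoryTheory.Limits AlgebraicGeometry TopologicalSpace Opposite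

noncomputable section

namespace Groth.Agent.FormalAlg

open Groth.Agent

variable {X : Scheme.{u}} [IsLocallyNoetherian X] {J : X.IdealSheafData}

/-- The algebraization is free at the points of the closed subscheme. -/
theorem free_stalk_of_quotient (hJ : PicF.IsInvertible (ClSub.idealMod J))
    (𝔐 : FSch.ModSys (FSch.completionAlong X J)) (h : ∀ n, FlatMod.IsFinLocFree (𝔐.F n))
    {M : X.Modules} (hM : Coh.IsCoh M) (q : ∀ n, M ⟶ (ofModSys hJ 𝔐 h).G n)
    (hs : ∀ n (x : X), Function.Surjective ((DerSch.stalkFunctor X x).map (q n)))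
    (hk : ∀ n (W : X.affineOpens) (x : X) (hx : x ∈ W.1) (v : (DerSch.stalkFunctor X x).obj M),
      (DerSch.stalkFunctor X x).map (q n) v = 0 → v ∈ DepthTwist.stI J W hx ^ (n + 1) •
        (⊤ : Submodule (X.presheaf.stalk x) ((DerSch.stalkFunctor X x).obj M)))
    {x : X} (hxJ : x ∈ (J.support : Set X)) :
    Module.Free (X.presheaf.stalk x) (M.presheaf.stalk x) := by
  classical
  let R := X.presheaf.stalk x
  let Φ := DerSch.stalkFunctor X x
  obtain ⟨W, hx⟩ := exists_affine x
  obtain ⟨t, g, ht, hnz, -, -⟩ := exists_gen J hJ W hx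
  haveI : Module.Finite R (Φ.obj M) := QCoh.finite_stalk_of_isFT hM.1 hM.2 x
  obtain ⟨z, rfl⟩ : x ∈ Set.range (J ^ (0 + 1)).subschemeι := by
    rw [Scheme.IdealSheafData.range_subschemeι, Scheme.IdealSheafData.support_pow_succ]; exact hxJ
  let σ := ((J ^ (0 + 1)).subschemeι.stalkMap z).hom
  have hσ : RingHom.ker σ = Ideal.span {t} := by
    rw [← ht, ← pow_one (DepthTwist.stI J W hx), ← LefLib.stI_pow]
    exact CartierFP.ker_stalkMap_subschemeι (J ^ (0 + 1)) W z hx
  have htm : t ∈ IsLocalRing.maximalIdeal R := fun hu => by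
    have := hu.map σ
    rw [show σ t = 0 from RingHom.mem_ker.1 (hσ ▸ Ideal.mem_span_singleton_self t)] at this
    exact not_isUnit_zero this
  have hle : Ideal.span {t} ≤ IsLocalRing.maximalIdeal R :=
    (Ideal.span_singleton_le_iff_mem _).2 htm
  -- multiplication by `t` is injective
  have hreg : ∀ v : Φ.obj M, t • v = 0 → v = 0 := fun v hv => by
    have hmem : ∀ k : ℕ, v ∈ Ideal.span {t} ^ k • (⊤ : Submodule R (Φ.obj M)) := fun k => by
      rcases k with _ | k
      · rw [pow_zero, Ideal.one_eq_top, Submodule.top_smul]; trivial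
      obtain ⟨w, hw⟩ := (mem_pow_smul_top ht _ _).1 ((ofModSys hJ 𝔐 h).regular k W _ hx (Φ.map (q (k + 1)) v)
        fun r hr => by
          rw [ht, Ideal.mem_span_singleton'] at hr
          obtain ⟨a, rfl⟩ := hr
          rw [← map_smul, mul_smul, hv, smul_zero, map_zero])
      obtain ⟨w', rfl⟩ := hs (k + 1) _ w
      obtain ⟨y, hy⟩ := (mem_pow_smul_top ht _ _).1 (hk (k + 1) W _ hx (v - t ^ (k + 1) • w') (by
        rw [map_sub, map_smul, hw, sub_self]))
      refine (mem_pow_smul_top rfl _ _).2 ⟨w' + t • y, ?_⟩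
      rw [smul_add, smul_smul, ← pow_succ, hy, add_sub_cancel]
    have h0 : v ∈ ⨅ k : ℕ, Ideal.span {t} ^ k • (⊤ : Submodule R (Φ.obj M)) := Submodule.mem_iInf _ |>.2 hmem
    rwa [Ideal.iInf_pow_smul_eq_bot_of_isLocalRing _ (fun he => (IsLocalRing.maximalIdeal.isMaximal R).ne_top (top_le_iff.1 (he ▸ hle))),
      Submodule.mem_bot] at h0
  -- a basis of the bottom level
  let F0 : (J ^ (0 + 1)).subscheme.Modules := 𝔐.F 0
  haveI : Module.Free ((J ^ (0 + 1)).subscheme.presheaf.stalk z) (F0.presheaf.stalk z) :=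
    QCoh.free_stalk_of_isFinLocFree (h 0) z
  haveI : Module.Finite ((J ^ (0 + 1)).subscheme.presheaf.stalk z)
      (F0.presheaf.stalk z) :=
    QCoh.finite_stalk_of_isFT (QCoh.isQCoh_of_isFinLocFree (h 0)) (QCoh.isFT_of_isFP (QCoh.isFP_of_isFinLocFree (h 0))) z
  let b := Module.Free.chooseBasis ((J ^ (0 + 1)).subscheme.presheaf.stalk z)
    (F0.presheaf.stalk z)
  let ε := ExtShX.stalkPushEquiv (J ^ (0 + 1)).subschemeι F0 z
  let e : Φ.obj M →+ (F0.presheaf.stalk z) :=
    ε.toAddMonoidHom.comp (Φ.map (q 0)).hom.toAddMonoidHom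
  have he : ∀ (r : R) v, e (r • v) = σ r • e v := fun r v => by
    show ε (Φ.map (q 0) (r • v)) = _
    rw [map_smul]
    exact ExtShX.stalkPushEquiv_smul _ _ z r _
  have hes : Function.Surjective e := ε.surjective.comp (hs 0 _)
  have hek : ∀ v, e v = 0 → ∃ w, t • w = v := fun v hv => by
    obtain ⟨w, hw⟩ := (mem_pow_smul_top ht _ _).1 (hk 0 W _ hx v (ε.injective (hv.trans (map_zero ε).symm)))
    have ht1 : t ^ (0 + 1) = t := pow_one t
    rw [ht1] at hw
    exact ⟨w, hw⟩
  choose m hm using fun i => hes (b i)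
  let f := Fintype.linearCombination R m
  have hf : ∀ a, e (f a) = ∑ i, σ (a i) • b i := fun a => by
    simp only [f, Fintype.linearCombination_apply, map_sum, he, hm]
  have hb : Function.Bijective f := by
    refine ⟨LinearMap.ker_eq_bot.1 (LinearMap.ker_eq_bot'.2 fun a ha => ?_), ?_⟩
    · have step : ∀ a, f a = 0 → ∃ a', f a' = 0 ∧ ∀ i, t * a' i = a i := fun a ha => by
        have h1 : ∀ i, ∃ a', t * a' = a i := fun i => by
          have h2 : σ (a i) = 0 := Fintype.linearIndependent_iff.1 b.linearIndependent (fun i => σ (a i))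
            (by rw [← hf, ha, map_zero]) i
          rw [← RingHom.mem_ker, hσ, Ideal.mem_span_singleton'] at h2
          obtain ⟨c, hc⟩ := h2
          exact ⟨c, (mul_comm _ _).trans hc⟩
        choose a' ha' using h1
        refine ⟨a', hreg _ ?_, ha'⟩
        rw [← map_smul, ← ha]
        exact congrArg f (funext ha')
      have hpow : ∀ (k : ℕ) a, f a = 0 → ∀ i, a i ∈ Ideal.span {t} ^ k := fun k => by
        induction k with
        | zero => exact fun a _ i => by rw [pow_zero, Ideal.one_eq_top]; trivial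
        | succ k ih =>
          intro a ha i
          obtain ⟨a', ha', hi⟩ := step a ha
          rw [← hi]
          refine (pow_succ' (Ideal.span {t}) k).ge ?_
          exact Ideal.mul_mem_mul (Ideal.mem_span_singleton_self t) (ih a' ha' i)
      funext i
      have h0 : a i ∈ ⨅ k : ℕ, Ideal.span {t} ^ k := Submodule.mem_iInf _ |>.2 fun k => hpow k a ha i
      rwa [Ideal.iInf_pow_eq_bot_of_isLocalRing _ (fun he => (IsLocalRing.maximalIdeal.isMaximal R).ne_top (top_le_iff.1 (he ▸ hle))),
        Ideal.mem_bot] at h0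
    · rw [← LinearMap.range_eq_top, eq_top_iff]
      refine Submodule.le_of_le_smul_of_le_jacobson_bot (I := Ideal.span {t}) Module.Finite.fg_top
        (hle.trans (IsLocalRing.maximalIdeal_le_jacobson _)) fun v _ => ?_
      choose a ha using fun i => (J ^ (0 + 1)).subschemeι.stalkMap_surjective z (b.repr (e v) i)
      obtain ⟨w, hw⟩ := hek (v - f a) (by
        rw [map_sub, hf, sub_eq_zero]
        conv_lhs => rw [← b.sum_repr (e v)]
        exact Finset.sum_congr rfl fun i _ => congrArg (· • b i) (ha i).symm)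
      exact Submodule.mem_sup.2 ⟨f a, ⟨a, rfl⟩, t • w, Submodule.smul_mem_smul (Ideal.mem_span_singleton_self t) trivial,
        by rw [hw, add_sub_cancel]⟩
  exact Module.Free.of_equiv (LinearEquiv.ofBijective f hb)

/-- The algebraization is locally free on a neighbourhood of the closed subscheme. -/
theorem exists_open_locFree (hJ : PicF.IsInvertible (ClSub.idealMod J))
    (𝔐 : FSch.ModSys (FSch.completionAlong X J)) (h : ∀ n, FlatMod.IsFinLocFree (𝔐.F n))
    {M : X.Modules} (hM : Coh.IsCoh M) (q : ∀ n, M ⟶ (ofModSys hJ 𝔐 h).G n)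
    (hs : ∀ n (x : X), Function.Surjective ((DerSch.stalkFunctor X x).map (q n)))
    (hk : ∀ n (W : X.affineOpens) (x : X) (hx : x ∈ W.1) (v : (DerSch.stalkFunctor X x).obj M),
      (DerSch.stalkFunctor X x).map (q n) v = 0 → v ∈ DepthTwist.stI J W hx ^ (n + 1) •
        (⊤ : Submodule (X.presheaf.stalk x) ((DerSch.stalkFunctor X x).obj M))) :
    ∃ U : X.Opens, (J.support : Set X) ⊆ U ∧ FlatMod.IsFinLocFree (M.restrict U.ι) := by
  have key : ∀ x : (J.support : Set X), ∃ (U : X.Opens) (n : ℕ), x.1 ∈ U ∧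
      Nonempty (M.restrict U.ι ≅ FlatMod.freeMod (U : Scheme.{u}) n) := fun x => by
    haveI := free_stalk_of_quotient hJ 𝔐 h hM q hs hk x.2
    exact QCoh.exists_free_nhd_of_free_stalk (QCoh.isCoh_iff_isFP.1 hM) x.1
  choose V n hV hn using key
  exact ⟨⨆ x, V x, fun x hx => Opens.mem_iSup.2 ⟨⟨x, hx⟩, hV _⟩,
    CohPullLib.isFinLocFree_restrict_of_nhds fun y hy => by
      obtain ⟨x, hyx⟩ := Opens.mem_iSup.1 hy
      exact ⟨V x, hyx, le_iSup V x, fun u => ⟨⊤, n x, trivial,
        ⟨(Scheme.Modules.restrictFunctor (⊤ : (V x).toScheme.Opens).ι).mapIso (hn x).some ≪≫ QCoh.freeModRestrict _ _⟩⟩⟩⟩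

end Groth.Agent.FormalAlg
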