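import Groth.Agent.FormalAlg.Algebraize
import Groth.Agent.FormalAlg.Levels
import Groth.Agent.FormalAlg.LocFree
import Groth.Agent.FormalAlg.InvTwist
import Groth.Agent.DepthRel.Lef
import Groth.Agent.DepthRel.Fibres
import Groth.Agent.FlatLoc6.NormFlat
import Groth.Agent.PerfLocus7.RelTor
import Groth.Agent.FibVanish.Basic

/-!
# Vanishing over an affine base for locally free modules
-/

set_option linter.style.haveILetI false
set_option linter.unusedSectionVars false
set_option backward.isDefEq.respectTransparency false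
set_option backward.isDefEq.respectTransparency.types false

universe u

open CategoryTheory CategoryTheory.Limits AlgebraicGeometry TopologicalSpace Opposite
open Groth.Agent.H23.PicMul

noncomputable section

namespace Groth.Agent.FormalAlg

open Groth.Agent

variable {X : Scheme.{u}}

/-- A locally free module has at least the fibre depth of the structure module. -/
theorem le_fibDepth_of_isFinLocFree [IsLocallyNoetherian X] {S : Scheme.{u}} (f : X ⟶ S) {F : X.Modules}
    (hF : FlatMod.IsFinLocFree F) (x : X) :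
    DepthRel.fibDepth f (Coh.structureModule X) x ≤ DepthRel.fibDepth f F x := by
  let R := X.presheaf.stalk x
  let J := Codepth5.fibIdeal f x
  haveI := QCoh.free_stalk_of_isFinLocFree hF x
  haveI : Module.Finite R (F.presheaf.stalk x) :=
    QCoh.finite_stalk_of_isFT (QCoh.isQCoh_of_isFinLocFree hF) (QCoh.isFT_of_isFP (QCoh.isFP_of_isFinLocFree hF)) x
  let b := Module.Free.chooseBasis R (F.presheaf.stalk x)
  let ι := Module.Free.ChooseBasisIndex R (F.presheaf.stalk x)
  let e : F.presheaf.stalk x ≃ₗ[R] (Fin (Fintype.card ι) → R) :=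
    b.equivFun.trans (LinearEquiv.funCongrLeft R R (Fintype.equivFin ι).symm)
  obtain ⟨n, hn⟩ : ∃ n, n = Fintype.card ι := ⟨_, rfl⟩
  rcases n with _ | k
  · haveI : IsEmpty (Fin (Fintype.card ι)) := by rw [← hn]; exact Fin.isEmpty
    haveI : Subsingleton (F.presheaf.stalk x) := e.toEquiv.subsingleton
    haveI : Subsingleton (F.presheaf.stalk x ⧸ J • (⊤ : Submodule R (F.presheaf.stalk x))) :=
      (Submodule.Quotient.mk_surjective _).subsingleton
    exact le_top.trans_eq (if_pos (Subsingleton.elim _ _)).symm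
  · let e' : F.presheaf.stalk x ≃ₗ[R] (Fin (k + 1) → R) :=
      e.trans (LinearEquiv.funCongrLeft R R (finCongr hn))
    let O := (Coh.structureModule X).presheaf.stalk x
    let u := KFlatLib.stalkUnitEquiv x
    let e'' : F.presheaf.stalk x ≃ₗ[R] (Fin (k + 1) → O) := e'.trans (LinearEquiv.piCongrRight fun _ => u)
    let Q := O ⧸ J • (⊤ : Submodule R O)
    let π : (Fin (k + 1) → O) →ₗ[R] (Fin (k + 1) → Q) :=
      LinearMap.pi fun i => (J • (⊤ : Submodule R O)).mkQ ∘ₗ LinearMap.proj i
    let p : F.presheaf.stalk x →ₗ[R] (Fin (k + 1) → Q) := π ∘ₗ e''.toLinearMap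
    have hp : Function.Surjective p := fun q => by
      choose v hv using fun i => Submodule.Quotient.mk_surjective _ (q i)
      refine ⟨e''.symm v, funext fun i => ?_⟩
      show (J • (⊤ : Submodule R O)).mkQ (e'' (e''.symm v) i) = q i
      rw [e''.apply_symm_apply]
      exact hv i
    have hker : LinearMap.ker p = J • (⊤ : Submodule R (F.presheaf.stalk x)) := by
      refine le_antisymm (fun v hv => ?_) (Submodule.smul_le.2 fun r hr v _ => ?_)
      · have hv' : ∀ i, e'' v i ∈ J • (⊤ : Submodule R O) := fun i =>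
          (Submodule.Quotient.mk_eq_zero _).1 (congrFun hv i)
        have h1 : v = ∑ i, e''.symm (LinearMap.single R (fun _ => O) i (e'' v i)) := by
          rw [← map_sum]
          apply e''.injective
          rw [e''.apply_symm_apply]
          exact (Finset.univ_sum_single (e'' v)).symm
        rw [h1]
        refine Submodule.sum_mem _ fun i _ => ?_
        have h2 := Submodule.mem_map_of_mem (f := e''.symm.toLinearMap ∘ₗ LinearMap.single R (fun _ => O) i) (hv' i)
        rw [Submodule.map_smul''] at h2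
        exact Submodule.smul_mono le_rfl le_top h2
      · refine funext fun i => (Submodule.Quotient.mk_eq_zero _).2 ?_
        show e'' (r • v) i ∈ J • (⊤ : Submodule R O)
        rw [show (e'' (r • v)) i = r • e'' v i from congrFun (map_smul e'' r v) i]
        exact Submodule.smul_mem_smul hr trivial
    let q : (F.presheaf.stalk x ⧸ J • (⊤ : Submodule R (F.presheaf.stalk x))) ≃ₗ[R] (Fin (k + 1) → Q) :=
      (Submodule.quotEquivOfEq _ _ hker.symm).trans (p.quotKerEquivOfSurjective hp)
    haveI : Module.Finite R O := Module.Finite.equiv u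
    exact ((Hensel.depth_congr q).trans (FlatLoc6.depth_pi Q k)).ge

variable (A : Type u) [CommRing A] [IsNoetherianRing A]

/-- Vanishing of negative twists of locally free modules on a relatively deep scheme. -/
theorem exists_van_locFree [IsLocallyNoetherian X] {Y : Scheme.{u}} (ι : Y ⟶ X) [IsClosedImmersion ι]
    (q : X ⟶ Spec (CommRingCat.of A)) [IsProper q] [Flat (ι ≫ q)] {L I : X.Modules} (hamp : CohB1.IsAmple L)
    (hI : PicF.IsInvertible I) (hLI : PicF.cl L * PicF.cl I = 1)
    (hdepth : ∀ y : Y, IsClosed ({(ι ≫ q).asFiber y} : Set ↥((ι ≫ q).fiber ((ι ≫ q).base y))) →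
      (2 : ℕ∞) ≤ LocCoh.depth ↑(CInt.fiberStalk (ι ≫ q) y) ↑(CInt.fiberStalk (ι ≫ q) y))
    {F : Y.Modules} (hF : FlatMod.IsFinLocFree F) :
    ∀ i, i ≤ 1 → ∃ j₀, ∀ j, j₀ ≤ j → Van i (PicF.cl ((Scheme.Modules.pushforward ι).obj F) * PicF.cl I ^ j) := by
  letI : Y.Over (Spec (CommRingCat.of A)) := ⟨ι ≫ q⟩
  haveI : IsProper (Y ↘ Spec (CommRingCat.of A)) := inferInstanceAs (IsProper (ι ≫ q))
  haveI : IsLocallyNoetherian Y := LocallyOfFiniteType.isLocallyNoetherian ι
  haveI : CompactSpace X := hamp.2.1
  haveI : CompactSpace Y := ι.isClosedEmbedding.compactSpace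
  haveI : Flat (Y ↘ Spec (CommRingCat.of A)) := inferInstanceAs (Flat (ι ≫ q))
  have hampY : CohB1.IsAmple ((Scheme.Modules.pullback ι).obj L) :=
    AmpleVan.isAmple_pullback_of_isEmbedding ι ι.isClosedEmbedding.isEmbedding hamp
  have hM : ClSub.IsInverseOf ((Scheme.Modules.pullback ι).obj L) ((Scheme.Modules.pullback ι).obj I) := by
    refine cl_eq_iff.1 ?_
    rw [← H23.PicMul.one_def]
    show PicF.cl (CohB1.tensorMod _ _) = _
    rw [cl_tensor]
    show PicF.pullCl ι (PicF.cl L) * PicF.pullCl ι (PicF.cl I) = 1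
    rw [← pullCl_mul, hLI, pullCl_one]
  obtain ⟨m₀, hm₀⟩ := DepthRel.exists_vanishing A hampY hM F (CurveDeg.isCoh_of_isFinLocFree hF)
    (PerfLocus7.isFlatOver_of_isFinLocFree _ hF) 1 fun y hy => by
      refine le_trans ?_ (le_fibDepth_of_isFinLocFree _ hF y)
      rw [DepthRel.fibDepth_unit]
      exact hdepth y (DepthRel.isClosed_asFiber_of_isClosed _ hy)
  intro i hi
  refine ⟨m₀, fun j hj => ?_⟩
  rw [← cl_tensorPow]
  refine (van_push ι (QCoh.isQCoh_of_isFinLocFree hF) (InvX.isInvertible_tensorPow hI j) i).2 ?_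
  refine van_of i _ (hm₀ j hj i hi) ?_
  rw [cl_tensor, cl_tensorPow, cl_tensorPow, pullCl_pow]
  rfl

end Groth.Agent.FormalAlg
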