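import Groth.Agent.FormalAlg.Vanish
import Groth.Agent.AmpleVan.Tower
import Groth.Agent.FFun.PropSupp

/-!
# Sections of twisted systems lift for large twists
-/

set_option linter.style.haveILetI false
set_option linter.unusedSectionVars false
set_option backward.isDefEq.respectTransparency false
set_option backward.isDefEq.respectTransparency.types false

universe u

open CategoryTheory CategoryTheory.Limits AlgebraicGeometry TopologicalSpace Opposite
open CategoryTheory.Abelian
open Groth.Agent.H23.PicMul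
open Groth.Agent.PnCoh.Finite (mapLin)

attribute [local instance] HasDerivedCategory.standard

noncomputable section

namespace Groth.Agent.FormalAlg

open Groth.Agent

variable {X : Scheme.{u}} {J : X.IdealSheafData}
variable (A : Type u) [CommRing A] [IsNoetherianRing A] [X.Over (Spec (CommRingCat.of A))]
  [IsProper (X ↘ Spec (CommRingCat.of A))]

/-- Surjections in a chain starting from a Noetherian module are eventually injective. -/
theorem eventually_injective {T : ℕ → Type u} [∀ i, AddCommGroup (T i)] [∀ i, Module A (T i)]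
    [IsNoetherian A (T 0)] (θ : ∀ i, T i →ₗ[A] T (i + 1)) (h : ∀ i, Function.Surjective (θ i)) :
    ∃ i₀, ∀ i, i₀ ≤ i → Function.Injective (θ i) := by
  let ν : ∀ i, T 0 →ₗ[A] T i := fun i => Nat.rec LinearMap.id (fun i f => (θ i).comp f) i
  have hν : ∀ i, Function.Surjective (ν i) := fun i => by
    induction i with
    | zero => exact Function.surjective_id
    | succ i ih => exact (h i).comp ih
  have hmono : Monotone fun i => LinearMap.ker (ν i) := monotone_nat_of_le_succ fun i x hx => by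
    show θ i (ν i x) = 0
    rw [show ν i x = 0 from hx, map_zero]
  obtain ⟨i₀, hi₀⟩ := (monotone_stabilizes_iff_noetherian (R := A) (M := T 0)).2 inferInstance ⟨_, hmono⟩
  refine ⟨i₀, fun i hi => (injective_iff_map_eq_zero _).2 fun y hy => ?_⟩
  obtain ⟨x, rfl⟩ := hν i y
  have hx : x ∈ LinearMap.ker (ν (i + 1)) := hy
  have he : LinearMap.ker (ν i) = LinearMap.ker (ν (i + 1)) :=
    (hi₀ i hi).symm.trans (hi₀ (i + 1) (by omega))
  rw [← he] at hx
  exact hx

variable (S : LevelSys J) (hJ : PicF.IsInvertible (ClSub.idealMod J)) {L : X.Modules}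
  (hamp : CohB1.IsAmple L) (hLI : PicF.cl L * PicF.cl (ClSub.idealMod J) = 1)

include hJ hamp hLI A in
/-- For large twists, sections lift to all levels. -/
theorem LevelSys.exists_twist_lift
    (hj : ∃ j₀, ∀ j, j₀ ≤ j → Van 1 (PicF.cl (S.G 0) * PicF.cl (ClSub.idealMod J) ^ j)) :
    ∃ m₀, ∀ m, m₀ ≤ m → ∀ s : Γ((AmpleVan.tw (CohB1.tensorPow L m)).obj (S.G 0), ⊤),
      ∃ g : ∀ n, Γ((AmpleVan.tw (CohB1.tensorPow L m)).obj (S.G n), ⊤),
        (∀ n, ((AmpleVan.tw (CohB1.tensorPow L m)).map (S.ρ n)).app ⊤ (g (n + 1)) = g n) ∧ g 0 = s := by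
  classical
  haveI : IsNoetherian X :=
    { __ := (LocallyOfFiniteType.isLocallyNoetherian (X ↘ Spec (CommRingCat.of A)) : IsLocallyNoetherian X),
      __ := (AmpleVan.compactSpace_of_proper (A := A) : CompactSpace X) }
  obtain ⟨j₀, hj₀⟩ := hj
  obtain ⟨d₀, hd₀⟩ := AmpleVan.exists_vanishing (A := A) hamp (S.coh 0)
  let a := PicF.cl (ClSub.idealMod J)
  let l := PicF.cl L
  have hla : ∀ i, l ^ i * a ^ i = 1 := fun i => by rw [← mul_pow, hLI, one_pow]
  have hserre : ∀ d, d₀ ≤ d → Van 1 (PicF.cl (S.G 0) * l ^ d) := fun d hd =>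
    van_of 1 _ (hd₀ d hd 0) (by rw [cl_tensor, cl_tensorPow])
  let P := fun m => CohB1.tensorPow L m
  have hP : ∀ m, PicF.IsInvertible (P m) := fun m => InvX.isInvertible_tensorPow hamp.1 m
  have hclP : ∀ m, PicF.cl (P m) = l ^ m := fun m => cl_tensorPow L m
  -- the surjections between first cohomology groups
  let W : ℕ → X.Modules := fun i => (AmpleVan.tw (P (d₀ + i))).obj (S.G (j₀ + d₀ + i))
  have hu : ∀ i, Nonempty (W i ≅ (AmpleVan.tw (P (d₀ + i + 1))).obj (S.GI (j₀ + d₀ + i))) := fun i => cl_eq_iff.1 (by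
    rw [cl_tw, cl_tw, hclP, hclP,
      show PicF.cl (S.GI (j₀ + d₀ + i)) = PicF.cl (S.G (j₀ + d₀ + i)) * a from cl_tensor _ _, pow_succ, mul_assoc,
      ← mul_assoc a, mul_comm a, mul_assoc, mul_comm a, hLI, mul_one])
  have hS : ∀ i, ((ShortComplex.mk (S.psi hJ (j₀ + d₀ + i)) (S.pr (j₀ + d₀ + i + 1)) (S.psi_pr hJ _)).map
      (AmpleVan.tw (P (d₀ + i + 1)))).ShortExact := fun i => by
    haveI := AmpleVan.isEquivalence_tw (hP (d₀ + i + 1))
    exact (S.shortExact_psi hJ (j₀ + d₀ + i)).map_of_exact _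
  haveI : Module.Finite A (Coh.HH X (W 0) 1) := by
    refine FFun.finite_HH_of_properSupport A (C := Set.univ) ?_
      (AmpleVan.isCoh_tensor (S.coh _) (AmpleVan.isCoh_invertible (hP _))) (Set.subset_univ _) 1
    exact ⟨isClosed_univ, inferInstance⟩
  let θ : ∀ i, Coh.HH X (W i) 1 →ₗ[A] Coh.HH X (W (i + 1)) 1 := fun i =>
    (mapLin A ((AmpleVan.tw (P (d₀ + i + 1))).map (S.psi hJ (j₀ + d₀ + i))) 1).comp (mapLin A (hu i).some.hom 1)
  have hid : ∀ {M N : X.Modules} (f : M ⟶ N) (g : N ⟶ M), f ≫ g = 𝟙 M → ∀ x : Coh.HH X M 1,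
      mapLin A g 1 (mapLin A f 1 x) = x := fun {M N} f g h x => by
    show Sheaf.H.map _ 1 (Sheaf.H.map _ 1 x) = x
    refine (PnCoh.Finite.map_map (Y := X.toPresheafedSpace.carrier)
      (((QCoh.toAbFunctor X).map_comp f g).symm.trans (by rw [h, CategoryTheory.Functor.map_id])) 1 x).trans ?_
    exact Sheaf.H.map_id_apply x
  have hiso : ∀ {M N : X.Modules} (e : M ≅ N), Function.Bijective (mapLin A e.hom 1) := fun e =>
    ⟨Function.LeftInverse.injective (hid e.hom e.inv e.hom_inv_id),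
      Function.RightInverse.surjective (hid e.inv e.hom e.inv_hom_id)⟩
  have hθ : ∀ i, Function.Surjective (θ i) := fun i =>
    (surjective_of_subsingleton (hS i) 1 (hserre (d₀ + i + 1) (by omega) _ (by
      show PicF.cl ((AmpleVan.tw (P (d₀ + i + 1))).obj (S.G 0)) = _
      rw [cl_tw, hclP]))).comp (hiso (hu i).some).2
  haveI : IsNoetherian A (Coh.HH X (W 0) 1) := inferInstance
  obtain ⟨i₀, hi₀⟩ := eventually_injective A (T := fun i => Coh.HH X (W i) 1) θ hθ
  refine ⟨d₀ + i₀ + 1, fun m hm s => ?_⟩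
  obtain ⟨i, rfl⟩ : ∃ i, m = d₀ + i + 1 := ⟨m - d₀ - 1, by omega⟩
  -- sections of the bottom level lift to level `j₀ + d₀ + i + 1`
  have htop : Function.Surjective (((AmpleVan.tw (P (d₀ + i + 1))).map (S.pr (j₀ + d₀ + i + 1))).app ⊤) := by
    refine app_top_surjective_of_injective (hS i) fun y y' he => ?_
    obtain ⟨z, rfl⟩ := (hiso (hu i).some).2 y
    obtain ⟨z', rfl⟩ := (hiso (hu i).some).2 y'
    rw [hi₀ i (by omega) (show θ i z = θ i z' from he)]
  obtain ⟨s', hs'⟩ := htop s
  let T := AmpleVan.tw (P (d₀ + i + 1))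
  -- projections to all lower levels
  let N := j₀ + d₀ + i + 1
  have hup : ∀ n, N ≤ n → Function.Surjective ((T.map (S.ρ n)).app ⊤) := fun n hn =>
    S.surjective_ρ_tw hJ (hP _) n fun M hM => by
      refine hj₀ (n + 1 - (d₀ + i + 1) + 0) ?_ M (hM.trans ?_)
      · omega
      · rw [hclP, add_zero, show a ^ (n + 1) = a ^ (n + 1 - (d₀ + i + 1)) * a ^ (d₀ + i + 1) by
          rw [← pow_add, Nat.sub_add_cancel (by omega)], mul_assoc, mul_assoc, mul_comm (a ^ (d₀ + i + 1)),
          hla, mul_one]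
  obtain ⟨g₀, hg₀, hgN⟩ := AmpleVan.exists_compatible (G := fun n => Γ(T.obj (S.G (N + n)), ⊤))
    (fun n => (T.map (S.ρ (N + n))).app ⊤) (fun n => hup (N + n) (by omega)) 0 s'
  -- a compatible family through `g₀`
  have ext : ∀ (M : ℕ) (h : ∀ n, Γ(T.obj (S.G (M + n)), ⊤)),
      (∀ n, (T.map (S.ρ (M + n))).app ⊤ (h (n + 1)) = h n) → (T.map (S.pr M)).app ⊤ (h 0) = s →
      ∃ g : ∀ n, Γ(T.obj (S.G n), ⊤), (∀ n, (T.map (S.ρ n)).app ⊤ (g (n + 1)) = g n) ∧ g 0 = s := by
    intro M
    induction M with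
    | zero =>
      intro h hh h0
      refine ⟨fun n => (T.map (eqToHom (congrArg S.G (Nat.zero_add n)))).app ⊤ (h n), fun n => ?_, ?_⟩
      · have e : eqToHom (congrArg S.G (Nat.zero_add (n + 1))) ≫ S.ρ n =
            S.ρ (0 + n) ≫ eqToHom (congrArg S.G (Nat.zero_add n)) := by
          have key : ∀ (a : ℕ) (ha : 0 + n = a), eqToHom (congrArg S.G (congrArg (· + 1) ha)) ≫ S.ρ a =
              S.ρ (0 + n) ≫ eqToHom (congrArg S.G ha) := by
            rintro _ rfl; simp
          exact key n (Nat.zero_add n)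
        have e' := congrArg (fun f => (Scheme.Modules.Hom.app (T.map f) ⊤) (h (n + 1))) e
        simp only [Functor.map_comp] at e'
        exact e'.trans (congrArg _ (hh n))
      · rw [← h0]; rfl
    | succ M ih =>
      intro h hh h0
      let h' : ∀ n, Γ(T.obj (S.G (M + n)), ⊤) := fun n => Nat.casesOn n ((T.map (S.ρ M)).app ⊤ (h 0))
        fun n => (T.map (eqToHom (congrArg S.G (show M + 1 + n = M + (n + 1) by omega)))).app ⊤ (h n)
      refine ih h' (fun n => ?_) ?_
      · cases n with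
        | zero =>
          show (T.map (S.ρ M)).app ⊤ ((T.map (eqToHom _)).app ⊤ (h 0)) = _
          rw [eqToHom_refl, CategoryTheory.Functor.map_id]
          rfl
        | succ n =>
          have key : ∀ (a : ℕ) (ha : M + 1 + n = a), eqToHom (congrArg S.G (congrArg (· + 1) ha)) ≫ S.ρ a =
              S.ρ (M + 1 + n) ≫ eqToHom (congrArg S.G ha) := by
            rintro _ rfl; simp
          have e' := congrArg (fun f => (Scheme.Modules.Hom.app (T.map f) ⊤) (h (n + 1)))
            (key (M + (n + 1)) (by omega))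
          simp only [Functor.map_comp] at e'
          exact e'.trans (congrArg _ (hh n))
      · rw [← h0]
        exact congr(($((T.map_comp (S.ρ M) (S.pr M)).symm)).app ⊤ (h 0))
  exact ext N g₀ hg₀ (by rw [hgN]; exact hs')

end Groth.Agent.FormalAlg
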