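import Groth.Agent.FormalAlg.Gen
import Groth.Agent.LefLib.FinLocFree
import Groth.Agent.LefLib.PicThick

/-!
# Systems of modules on the thickenings of an invertible ideal
-/

set_option linter.style.haveILetI false
set_option linter.unusedSectionVars false
set_option backward.isDefEq.respectTransparency false
set_option backward.isDefEq.respectTransparency.types false

universe u

open CategoryTheory CategoryTheory.Limits AlgebraicGeometry TopologicalSpace Opposite
open scoped Pointwise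

noncomputable section

namespace Groth.Agent.FormalAlg

open Groth.Agent

variable {X : Scheme.{u}}

theorem mem_pow_smul_top {R M : Type u} [CommRing R] [AddCommGroup M] [Module R M] {I : Ideal R} {t : R}
    (hI : I = Ideal.span {t}) (n : ℕ) (v : M) : v ∈ I ^ n • (⊤ : Submodule R M) ↔ ∃ w, t ^ n • w = v := by
  subst hI
  rw [Ideal.span_singleton_pow, Submodule.ideal_span_singleton_smul, Submodule.mem_smul_pointwise_iff_exists]
  simp

theorem smul_of_killed {R M : Type u} [CommRing R] [AddCommGroup M] [Module R M] {I : Ideal R} {t : R}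
    (hI : I = Ideal.span {t}) (n : ℕ) (h : ∀ r ∈ I ^ n, ∀ v : M, r • v = 0) (v : M) : t ^ n • v = 0 :=
  h _ (by subst hI; exact Ideal.pow_mem_pow (Ideal.mem_span_singleton_self t) n) v

theorem exists_affine (x : X) : ∃ W : X.affineOpens, x ∈ W.1 := by
  obtain ⟨_, ⟨W, hW, rfl⟩, hx, -⟩ := X.isBasis_affineOpens.exists_subset_of_mem_open (Set.mem_univ x) isOpen_univ
  exact ⟨⟨W, hW⟩, hx⟩

/-- Coherent modules on the thickenings, seen on `X`, flat in the direction of the ideal. -/
structure LevelSys (J : X.IdealSheafData) where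
  /-- the levels -/
  G : ℕ → X.Modules
  /-- the transition maps -/
  ρ : ∀ k, G (k + 1) ⟶ G k
  coh : ∀ k, Coh.IsCoh (G k)
  surj : ∀ k (x : X), Function.Surjective ((DerSch.stalkFunctor X x).map (ρ k))
  ker : ∀ k (W : X.affineOpens) (x : X) (hx : x ∈ W.1) (v : (DerSch.stalkFunctor X x).obj (G (k + 1))),
    (DerSch.stalkFunctor X x).map (ρ k) v = 0 → v ∈ DepthTwist.stI J W hx ^ (k + 1) •
      (⊤ : Submodule (X.presheaf.stalk x) ((DerSch.stalkFunctor X x).obj (G (k + 1))))
  killed : ∀ k (W : X.affineOpens) (x : X) (hx : x ∈ W.1), ∀ r ∈ DepthTwist.stI J W hx ^ (k + 1),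
    ∀ v : (DerSch.stalkFunctor X x).obj (G k), r • v = 0
  regular : ∀ k (W : X.affineOpens) (x : X) (hx : x ∈ W.1) (v : (DerSch.stalkFunctor X x).obj (G (k + 1))),
    (∀ r ∈ DepthTwist.stI J W hx, r • v = 0) → v ∈ DepthTwist.stI J W hx ^ (k + 1) •
      (⊤ : Submodule (X.presheaf.stalk x) ((DerSch.stalkFunctor X x).obj (G (k + 1))))

namespace LevelSys

variable {J : X.IdealSheafData} (S : LevelSys J)

theorem epi_ρ (k : ℕ) : Epi (S.ρ k) := HomShX.epi_of_stalk _ fun x => S.surj k x

/-- Regularity for powers. -/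
theorem regular_pow {W : X.affineOpens} {x : X} (hx : x ∈ W.1) {t : X.presheaf.stalk x}
    (ht : DepthTwist.stI J W hx = Ideal.span {t}) :
    ∀ (j k : ℕ) (v : (DerSch.stalkFunctor X x).obj (S.G k)), j ≤ k + 1 → t ^ j • v = 0 →
      ∃ w, t ^ (k + 1 - j) • w = v := by
  intro j
  induction j with
  | zero => intro k v _ hv; exact ⟨0, by rw [smul_zero, ← hv, pow_zero, one_smul]⟩
  | succ j ih =>
    intro k v hj hv
    rcases k with _ | k
    · exact ⟨v, by rw [show 0 + 1 - (j + 1) = 0 by omega, pow_zero, one_smul]⟩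
    · have h1 : ∀ r ∈ DepthTwist.stI J W hx, r • (t ^ j • v) = 0 := fun r hr => by
        rw [ht, Ideal.mem_span_singleton'] at hr
        obtain ⟨a, rfl⟩ := hr
        rw [smul_smul, mul_assoc, ← pow_succ', mul_smul, hv, smul_zero]
      obtain ⟨w, hw⟩ := (mem_pow_smul_top ht _ _).1 (S.regular k W x hx _ h1)
      have h2 : t ^ j • (v - t ^ (k + 1 - j) • w) = 0 := by
        rw [smul_sub, smul_smul, ← pow_add, show j + (k + 1 - j) = k + 1 by omega, hw, sub_self]
      obtain ⟨w', hw'⟩ := ih (k + 1) _ (by omega) h2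
      refine ⟨w + t • w', ?_⟩
      rw [show k + 1 + 1 - (j + 1) = k + 1 - j by omega, smul_add, smul_smul, ← pow_succ,
        show k + 1 - j + 1 = k + 1 + 1 - j by omega, hw', add_sub_cancel]

/-- The projection to the bottom level. -/
def pr : ∀ k, S.G k ⟶ S.G 0
  | 0 => 𝟙 _
  | k + 1 => S.ρ k ≫ pr k

theorem pr_surj : ∀ k (x : X), Function.Surjective ((DerSch.stalkFunctor X x).map (S.pr k))
  | 0, x => fun v => ⟨v, by simp [pr]⟩
  | k + 1, x => by
    rw [pr, Functor.map_comp]
    exact (pr_surj k x).comp (S.surj k x)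

theorem epi_pr (k : ℕ) : Epi (S.pr k) := HomShX.epi_of_stalk _ fun x => S.pr_surj k x

theorem pr_ker {W : X.affineOpens} {x : X} (hx : x ∈ W.1) {t : X.presheaf.stalk x}
    (ht : DepthTwist.stI J W hx = Ideal.span {t}) :
    ∀ (k : ℕ) (v : (DerSch.stalkFunctor X x).obj (S.G k)),
      (DerSch.stalkFunctor X x).map (S.pr k) v = 0 ↔ ∃ w, t • w = v := by
  have hk0 : ∀ w : (DerSch.stalkFunctor X x).obj (S.G 0), t • w = 0 := fun w => by
    have := smul_of_killed ht (0 + 1) (S.killed 0 W x hx) w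
    rwa [pow_one] at this
  intro k
  induction k with
  | zero =>
    intro v
    refine ⟨fun hv => ⟨0, ?_⟩, ?_⟩
    · rw [smul_zero, ← hv, pr, CategoryTheory.Functor.map_id]; rfl
    · rintro ⟨w, rfl⟩; rw [map_smul, hk0]
  | succ k ih =>
    intro v
    refine ⟨fun hv => ?_, ?_⟩
    · rw [pr, Functor.map_comp, ConcreteCategory.comp_apply] at hv
      obtain ⟨w, hw⟩ := (ih _).1 hv
      obtain ⟨w', rfl⟩ := S.surj k x w
      have h0 : (DerSch.stalkFunctor X x).map (S.ρ k) (v - t • w') = 0 := by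
        rw [map_sub, map_smul, hw, sub_self]
      obtain ⟨z, hz⟩ := (mem_pow_smul_top ht _ _).1 (S.ker k W x hx _ h0)
      refine ⟨w' + t ^ k • z, ?_⟩
      rw [smul_add, smul_smul, ← pow_succ', hz, add_sub_cancel]
    · rintro ⟨w, rfl⟩; rw [map_smul, hk0]

end LevelSys

/-- A levelwise surjective morphism of systems. -/
structure LevelHom {J : X.IdealSheafData} (H S : LevelSys J) where
  /-- the levels -/
  f : ∀ k, H.G k ⟶ S.G k
  comm : ∀ k, H.ρ k ≫ f k = f (k + 1) ≫ S.ρ k
  surj : ∀ k (x : X), Function.Surjective ((DerSch.stalkFunctor X x).map (f k))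

theorem stalk_kernel_injective {A B : X.Modules} (f : A ⟶ B) (x : X) :
    Function.Injective ((DerSch.stalkFunctor X x).map (kernel.ι f)) :=
  (ModuleCat.mono_iff_injective _).1 inferInstance

theorem stalk_kernel_exact {A B : X.Modules} (f : A ⟶ B) (x : X) (v : (DerSch.stalkFunctor X x).obj A)
    (hv : (DerSch.stalkFunctor X x).map f v = 0) : ∃ w, (DerSch.stalkFunctor X x).map (kernel.ι f) w = v := by
  have h : (ShortComplex.mk (kernel.ι f) f (kernel.condition f)).Exact :=
    ShortComplex.exact_of_f_is_kernel _ (kernelIsKernel f)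
  exact (ShortComplex.moduleCat_exact_iff _).1 (h.map (DerSch.stalkFunctor X x)) v hv

variable {J : X.IdealSheafData} {H S : LevelSys J} (φ : LevelHom H S)

theorem LevelHom.kerι_f (k : ℕ) (x : X) (w : (DerSch.stalkFunctor X x).obj (kernel (φ.f k))) :
    (DerSch.stalkFunctor X x).map (φ.f k) ((DerSch.stalkFunctor X x).map (kernel.ι (φ.f k)) w) = 0 := by
  rw [← ConcreteCategory.comp_apply, ← Functor.map_comp, kernel.condition, Functor.map_zero]
  rfl

theorem LevelHom.f_ρ (k : ℕ) (x : X) (h : (DerSch.stalkFunctor X x).obj (H.G (k + 1))) :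
    (DerSch.stalkFunctor X x).map (φ.f k) ((DerSch.stalkFunctor X x).map (H.ρ k) h) =
      (DerSch.stalkFunctor X x).map (S.ρ k) ((DerSch.stalkFunctor X x).map (φ.f (k + 1)) h) := by
  rw [← ConcreteCategory.comp_apply, ← Functor.map_comp, φ.comm, Functor.map_comp, ConcreteCategory.comp_apply]

/-- The transition maps of the kernels. -/
def LevelHom.kρ (k : ℕ) : kernel (φ.f (k + 1)) ⟶ kernel (φ.f k) :=
  kernel.map _ _ (H.ρ k) (S.ρ k) (φ.comm k).symm

theorem LevelHom.kρ_ι (k : ℕ) (x : X) (w : (DerSch.stalkFunctor X x).obj (kernel (φ.f (k + 1)))) :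
    (DerSch.stalkFunctor X x).map (kernel.ι (φ.f k)) ((DerSch.stalkFunctor X x).map (φ.kρ k) w) =
      (DerSch.stalkFunctor X x).map (H.ρ k) ((DerSch.stalkFunctor X x).map (kernel.ι (φ.f (k + 1))) w) := by
  rw [← ConcreteCategory.comp_apply, ← Functor.map_comp, LevelHom.kρ, kernel.map, kernel.lift_ι, Functor.map_comp,
    ConcreteCategory.comp_apply]

/-- The kernel of a surjective morphism of systems. -/
def LevelHom.kernelSys [IsLocallyNoetherian X] (hJ : PicF.IsInvertible (ClSub.idealMod J)) : LevelSys J where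
  G k := kernel (φ.f k)
  ρ k := φ.kρ k
  coh k := QCoh.isCoh_kernel (H.coh k) (S.coh k) _
  surj k x u := by
    obtain ⟨W, hx⟩ := exists_affine x
    obtain ⟨t, g, ht, -, -, -⟩ := exists_gen J hJ W hx
    obtain ⟨h, hh⟩ := H.surj k x ((DerSch.stalkFunctor X x).map (kernel.ι (φ.f k)) u)
    have h0 : (DerSch.stalkFunctor X x).map (S.ρ k) ((DerSch.stalkFunctor X x).map (φ.f (k + 1)) h) = 0 := by
      rw [← φ.f_ρ, hh, φ.kerι_f]
    obtain ⟨s, hs⟩ := (mem_pow_smul_top ht _ _).1 (S.ker k W x hx _ h0)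
    obtain ⟨s', rfl⟩ := φ.surj (k + 1) x s
    obtain ⟨w, hw⟩ := stalk_kernel_exact (φ.f (k + 1)) x (h - t ^ (k + 1) • s') (by
      rw [map_sub, map_smul, hs, sub_self])
    refine ⟨w, stalk_kernel_injective (φ.f k) x ?_⟩
    rw [φ.kρ_ι, hw, map_sub, map_smul, hh, smul_of_killed ht (k + 1) (H.killed k W x hx), sub_zero]
  ker k W x hx v hv := by
    obtain ⟨t, g, ht, -, -, -⟩ := exists_gen J hJ W hx
    have h0 : (DerSch.stalkFunctor X x).map (H.ρ k) ((DerSch.stalkFunctor X x).map (kernel.ι (φ.f (k + 1))) v) = 0 := by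
      rw [← φ.kρ_ι, hv, map_zero]
    obtain ⟨w, hw⟩ := (mem_pow_smul_top ht _ _).1 (H.ker k W x hx _ h0)
    exact (mem_pow_smul_top ht _ _).2 (mem_of_ι φ hx ht k v w hw)
  killed k W x hx r hr v := stalk_kernel_injective (φ.f k) x (by
    rw [map_smul, map_zero]; exact H.killed k W x hx r hr _)
  regular k W x hx v hv := by
    obtain ⟨t, g, ht, -, -, -⟩ := exists_gen J hJ W hx
    obtain ⟨w, hw⟩ := (mem_pow_smul_top ht _ _).1 (H.regular k W x hx
      ((DerSch.stalkFunctor X x).map (kernel.ι (φ.f (k + 1))) v) fun r hr => by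
        rw [← map_smul, hv r hr, map_zero])
    exact (mem_pow_smul_top ht _ _).2 (mem_of_ι φ hx ht k v w hw)
where
  mem_of_ι {J : X.IdealSheafData} {H S : LevelSys J} (φ : LevelHom H S) {W : X.affineOpens} {x : X} (hx : x ∈ W.1)
      {t : X.presheaf.stalk x} (ht : DepthTwist.stI J W hx = Ideal.span {t}) (k : ℕ)
      (v : (DerSch.stalkFunctor X x).obj (kernel (φ.f (k + 1)))) (w : (DerSch.stalkFunctor X x).obj (H.G (k + 1)))
      (hw : t ^ (k + 1) • w = (DerSch.stalkFunctor X x).map (kernel.ι (φ.f (k + 1))) v) :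
      ∃ z, t ^ (k + 1) • z = v := by
    have h1 : t ^ (k + 1) • (DerSch.stalkFunctor X x).map (φ.f (k + 1)) w = 0 := by
      rw [← map_smul, hw, φ.kerι_f]
    obtain ⟨s, hs⟩ := S.regular_pow hx ht (k + 1) (k + 1) _ (by omega) h1
    rw [show k + 1 + 1 - (k + 1) = 1 by omega, pow_one] at hs
    obtain ⟨s', rfl⟩ := φ.surj (k + 1) x s
    obtain ⟨z, hz⟩ := stalk_kernel_exact (φ.f (k + 1)) x (w - t • s') (by rw [map_sub, map_smul, hs, sub_self])
    refine ⟨z, stalk_kernel_injective (φ.f (k + 1)) x ?_⟩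
    rw [map_smul, hz, smul_sub, hw, smul_smul, ← pow_succ,
      smul_of_killed ht (k + 1 + 1) (H.killed (k + 1) W x hx), sub_zero]

/-- The thickened levels of a finite locally free module. -/
def levels [IsLocallyNoetherian X] (J : X.IdealSheafData) (hJ : PicF.IsInvertible (ClSub.idealMod J))
    (D : X.Modules) (hD : FlatMod.IsFinLocFree D) : LevelSys J where
  G k := (AmpleVan.tw D).obj (ClSub.quotMod (J ^ (k + 1)))
  ρ k := (AmpleVan.tw D).map (Lef.quotMap (I := J ^ (k + 1 + 1)) (J := J ^ (k + 1)) (Lef.pow_succ_le J k))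
  coh k := by
    exact AmpleVan.isCoh_tensor (isCoh_quot J k) (CurveDeg.isCoh_of_isFinLocFree hD)
  surj k x u := by
    obtain ⟨v, rfl⟩ := p_surj J D k x u
    exact ⟨_, p_comp J D k x v⟩
  ker k W x hx v hv := by
    obtain ⟨w, rfl⟩ := p_surj J D (k + 1) x v
    rw [p_comp] at hv
    have hmem := ((LefLib.twist_quot D (J ^ (k + 1))).2 W x hx w).1 hv
    rw [LefLib.stI_pow] at hmem
    have := Submodule.mem_map_of_mem (f := ((DerSch.stalkFunctor X x).map ((AmpleVan.tw D).map (ClSub.toSubscheme (J ^ (k + 1 + 1))))).hom) hmem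
    rw [Submodule.map_smul''] at this
    exact Submodule.smul_mono le_rfl le_top this
  killed k W x hx r hr v := by
    obtain ⟨w, rfl⟩ := p_surj J D k x v
    rw [← map_smul]
    refine ((LefLib.twist_quot D (J ^ (k + 1))).2 W x hx _).2 ?_
    rw [LefLib.stI_pow]
    exact Submodule.smul_mem_smul hr Submodule.mem_top
  regular k W x hx v hv := by
    obtain ⟨t, g, ht, hnz, -, -⟩ := exists_gen J hJ W hx
    obtain ⟨w, rfl⟩ := p_surj J D (k + 1) x v
    have h1 : t • w ∈ DepthTwist.stI J W hx ^ (k + 1 + 1) • (⊤ : Submodule (X.presheaf.stalk x) _) := by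
      rw [← LefLib.stI_pow]
      refine ((LefLib.twist_quot D (J ^ (k + 1 + 1))).2 W x hx _).1 ?_
      rw [map_smul]
      exact hv t (ht ▸ Ideal.mem_span_singleton_self t)
    obtain ⟨w', hw'⟩ := (mem_pow_smul_top ht _ _).1 h1
    refine (mem_pow_smul_top ht _ _).2
      ⟨(DerSch.stalkFunctor X x).map ((AmpleVan.tw D).map (ClSub.toSubscheme (J ^ (k + 1 + 1)))) w', ?_⟩
    rw [← map_smul]
    refine congrArg _ (sub_eq_zero.1 (torsionFree D hD x t hnz _ ?_))
    rw [smul_sub, smul_smul, ← pow_succ', hw', sub_self]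
where
  isCoh_quot (J : X.IdealSheafData) (k : ℕ) : Coh.IsCoh (ClSub.quotMod (J ^ (k + 1))) := by
    haveI : IsLocallyNoetherian (J ^ (k + 1)).subscheme :=
      LocallyOfFiniteType.isLocallyNoetherian (J ^ (k + 1)).subschemeι
    exact QCoh.isCoh_pushforward_finite _ (CurveDeg.isCoh_of_isInvertible InvX.isInvertible_structureModule)
  p_surj (J : X.IdealSheafData) (D : X.Modules) (k : ℕ) (x : X) :
      Function.Surjective ((DerSch.stalkFunctor X x).map ((AmpleVan.tw D).map (ClSub.toSubscheme (J ^ (k + 1))))) := by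
    haveI := (LefLib.twist_quot D (J ^ (k + 1))).1
    exact (ModuleCat.epi_iff_surjective _).1 inferInstance
  p_comp (J : X.IdealSheafData) (D : X.Modules) (k : ℕ) (x : X)
      (v : (DerSch.stalkFunctor X x).obj ((AmpleVan.tw D).obj (Coh.structureModule X))) :
      (DerSch.stalkFunctor X x).map ((AmpleVan.tw D).map (Lef.quotMap (I := J ^ (k + 1 + 1)) (J := J ^ (k + 1)) (Lef.pow_succ_le J k)))
        ((DerSch.stalkFunctor X x).map ((AmpleVan.tw D).map (ClSub.toSubscheme (J ^ (k + 1 + 1)))) v) =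
      (DerSch.stalkFunctor X x).map ((AmpleVan.tw D).map (ClSub.toSubscheme (J ^ (k + 1)))) v := by
    rw [← ConcreteCategory.comp_apply, ← Functor.map_comp, ← Functor.map_comp, LefLib.toSubscheme_quotMap]
  torsionFree (D : X.Modules) (hD : FlatMod.IsFinLocFree D) (x : X) (t : X.presheaf.stalk x)
      (ht : ∀ r, r * t = 0 → r = 0) (v : (DerSch.stalkFunctor X x).obj ((AmpleVan.tw D).obj (Coh.structureModule X)))
      (hv : t • v = 0) : v = 0 := by
    haveI : Module.Free (X.presheaf.stalk x) ((DerSch.stalkFunctor X x).obj ((AmpleVan.tw D).obj (Coh.structureModule X))) :=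
      QCoh.free_stalk_of_isFinLocFree (KFlatLib.isFinLocFree_tensor
        (H23.PullPush.isFinLocFree_of_isInvertible InvX.isInvertible_structureModule) hD) x
    let b := Module.Free.chooseBasis (X.presheaf.stalk x)
      ((DerSch.stalkFunctor X x).obj ((AmpleVan.tw D).obj (Coh.structureModule X)))
    refine b.repr.injective (Finsupp.ext fun i => ?_)
    have h1 := congrArg (fun z => b.repr z i) hv
    simp only [map_smul, map_zero, Finsupp.smul_apply, smul_eq_mul, Finsupp.zero_apply] at h1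
    rw [map_zero, Finsupp.zero_apply]
    exact ht _ ((mul_comm _ _).trans h1)

/-- The projection to a thickened level. -/
def levelsπ [IsLocallyNoetherian X] (J : X.IdealSheafData) (hJ : PicF.IsInvertible (ClSub.idealMod J))
    (D : X.Modules) (hD : FlatMod.IsFinLocFree D) (n : ℕ) :
    (AmpleVan.tw D).obj (Coh.structureModule X) ⟶ (levels J hJ D hD).G n := by
  delta levels
  show _ ⟶ (AmpleVan.tw D).obj (ClSub.quotMod (J ^ (n + 1)))
  exact (AmpleVan.tw D).map (ClSub.toSubscheme (J ^ (n + 1)))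

theorem epi_levelsπ [IsLocallyNoetherian X] (J : X.IdealSheafData) (hJ : PicF.IsInvertible (ClSub.idealMod J))
    (D : X.Modules) (hD : FlatMod.IsFinLocFree D) (n : ℕ) : Epi (levelsπ J hJ D hD n) :=
  (LefLib.twist_quot D (J ^ (n + 1))).1

theorem levelsπ_comm [IsLocallyNoetherian X] (J : X.IdealSheafData) (hJ : PicF.IsInvertible (ClSub.idealMod J))
    (D : X.Modules) (hD : FlatMod.IsFinLocFree D) (n : ℕ) :
    levelsπ J hJ D hD (n + 1) ≫ (levels J hJ D hD).ρ n = levelsπ J hJ D hD n := by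
  delta levelsπ levels
  show (AmpleVan.tw D).map (ClSub.toSubscheme (J ^ (n + 1 + 1))) ≫
      (AmpleVan.tw D).map (Lef.quotMap (I := J ^ (n + 1 + 1)) (J := J ^ (n + 1)) (Lef.pow_succ_le J n)) =
    (AmpleVan.tw D).map (ClSub.toSubscheme (J ^ (n + 1)))
  rw [← Functor.map_comp, LefLib.toSubscheme_quotMap]

theorem levelsπ_ker [IsLocallyNoetherian X] (J : X.IdealSheafData) (hJ : PicF.IsInvertible (ClSub.idealMod J))
    (D : X.Modules) (hD : FlatMod.IsFinLocFree D) (n : ℕ) (W : X.affineOpens) (x : X) (hx : x ∈ W.1)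
    (v : (DerSch.stalkFunctor X x).obj ((AmpleVan.tw D).obj (Coh.structureModule X))) :
    (DerSch.stalkFunctor X x).map (levelsπ J hJ D hD n) v = 0 ↔
      v ∈ DepthTwist.stI J W hx ^ (n + 1) • (⊤ : Submodule (X.presheaf.stalk x)
        ((DerSch.stalkFunctor X x).obj ((AmpleVan.tw D).obj (Coh.structureModule X)))) := by
  have h := (LefLib.twist_quot D (J ^ (n + 1))).2 W x hx v
  rw [LefLib.stI_pow] at h
  exact h

end Groth.Agent.FormalAlg
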