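import Groth.Agent.FormalAlg.Psi
import Groth.Agent.QCoh.HHExact
import Groth.Agent.PnCoh.Finite.HHLin

/-!
# Vanishing in terms of classes, and exactness on sections
-/

set_option linter.style.haveILetI false
set_option linter.unusedSectionVars false
set_option backward.isDefEq.respectTransparency false
set_option backward.isDefEq.respectTransparency.types false

universe u

open CategoryTheory CategoryTheory.Limits AlgebraicGeometry TopologicalSpace Opposite
open CategoryTheory.Abelian
open Groth.Agent.H23.PicMul

attribute [local instance] HasDerivedCategory.standard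

noncomputable section

namespace Groth.Agent.FormalAlg

open Groth.Agent

variable {X : Scheme.{u}}

/-- The cohomology in degree `i` of the modules of a given class vanishes. -/
def Van (i : ℕ) (c : PicF.Cl X) : Prop := ∀ M : X.Modules, PicF.cl M = c → Subsingleton (Coh.HH X M i)

theorem van_of (i : ℕ) (M : X.Modules) (h : Subsingleton (Coh.HH X M i)) {c : PicF.Cl X}
    (hc : PicF.cl M = c) : Van i c := fun N hN => by
  obtain ⟨e⟩ := cl_eq_iff.1 (hc.trans hN.symm)
  exact QCoh.subsingleton_HH_of_iso e i h

theorem cl_tw (P M : X.Modules) : PicF.cl ((AmpleVan.tw P).obj M) = PicF.cl M * PicF.cl P :=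
  cl_tensor M P

variable {S : ShortComplex X.Modules}

/-- A section of the quotient lifts when the first step injects on first cohomology. -/
theorem app_top_surjective_of_injective (hS : S.ShortExact)
    (h : Function.Injective (Sheaf.H.map ((QCoh.toAbFunctor X).map S.f) 1)) :
    Function.Surjective (S.g.app ⊤) := by
  intro q
  let T := S.map (QCoh.toAbFunctor X)
  have hT : T.ShortExact := QCoh.toAb_shortExact hS
  let z := (Sheaf.H.equiv₀ T.X₃ isTerminalTop).symm q
  have h0 : QCoh.Ab.connecting (X := X.toPresheafedSpace.carrier) hT 0 z = 0 := by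
    refine h (Eq.trans ?_ (map_zero _).symm)
    show (z.comp hT.extClass (zero_add 1)).comp (Ext.mk₀ T.f) (add_zero 1) = 0
    rw [Ext.comp_assoc_of_third_deg_zero, hT.extClass_comp]
    exact Ext.comp_zero _ _ _ _ _
  obtain ⟨y, hy⟩ := (QCoh.Ab.connecting_eq_zero_iff (X := X.toPresheafedSpace.carrier) hT 0 z).1 h0
  refine ⟨Sheaf.H.equiv₀ T.X₂ isTerminalTop y, ?_⟩
  refine (Sheaf.H.equiv₀_naturality isTerminalTop T.g y).trans ?_
  rw [show Sheaf.H.map T.g 0 y = _ from hy]
  exact AddEquiv.apply_symm_apply _ _

/-- The middle step is reached from the first when the last vanishes. -/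
theorem surjective_of_subsingleton (hS : S.ShortExact) (n : ℕ) (h : Subsingleton (Coh.HH X S.X₃ n)) :
    Function.Surjective (Sheaf.H.map ((QCoh.toAbFunctor X).map S.f) n) := fun x => by
  have hT : (S.map (QCoh.toAbFunctor X)).ShortExact := QCoh.toAb_shortExact hS
  haveI : Subsingleton (CohTop.H (X := X.toPresheafedSpace.carrier) (S.map (QCoh.toAbFunctor X)).X₃ n) := h
  exact Ext.covariant_sequence_exact₂ _ hT x (Subsingleton.elim _ _)

/-- Vanishing of the first step from the middle and the last. -/
theorem subsingleton_X₁ (hS : S.ShortExact) (n : ℕ) (h₂ : Subsingleton (Coh.HH X S.X₂ (n + 1)))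
    (h₃ : Subsingleton (Coh.HH X S.X₃ n)) : Subsingleton (Coh.HH X S.X₁ (n + 1)) := by
  haveI : Subsingleton (CohTop.H (X := X.toPresheafedSpace.carrier) (S.map (QCoh.toAbFunctor X)).X₃ n) := h₃
  have hs := QCoh.Ab.connecting_surjective (X := X.toPresheafedSpace.carrier) (QCoh.toAb_shortExact hS) n h₂
  exact hs.subsingleton

variable {J : X.IdealSheafData}

/-- Transition maps are surjective on sections once the kernel has no first cohomology. -/
theorem LevelSys.surjective_ρ_tw (S : LevelSys J) (hJ : PicF.IsInvertible (ClSub.idealMod J)) {P : X.Modules}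
    (hP : PicF.IsInvertible P) (k : ℕ)
    (h : Van 1 (PicF.cl (S.G 0) * PicF.cl (ClSub.idealMod J) ^ (k + 1) * PicF.cl P)) :
    Function.Surjective (((AmpleVan.tw P).map (S.ρ k)).app ⊤) := by
  haveI := AmpleVan.isEquivalence_tw hP
  haveI := S.epi_ρ k
  have hS : (ShortComplex.mk (kernel.ι (S.ρ k)) (S.ρ k) (kernel.condition _)).ShortExact :=
    { exact := ShortComplex.exact_of_f_is_kernel _ (kernelIsKernel (S.ρ k)) }
  refine QCoh.app_top_surjective_of_HH_one (hS.map_of_exact (AmpleVan.tw P)) (h _ ?_)
  show PicF.cl ((AmpleVan.tw P).obj (kernel (S.ρ k))) = _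
  rw [cl_tw, S.cl_kernel hJ k]

end Groth.Agent.FormalAlg
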